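import Cfsg.Agent.Lib.Suzuki2.Basic

/-!
# A field from a commutative group of automorphisms transitive on the non-trivial elements
-/

namespace Cfsg.Agent.Lib.Suzuki2.FieldModel

/-- An elementary abelian 2-group of order `2 ^ n` with a commutative group of automorphisms
transitive on the non-trivial elements is the additive group of `GF(2 ^ n)`, the automorphisms
acting as multiplications. -/
theorem field_model {A : Type*} [Group A] [Finite A] {n : ℕ} (hn : n ≠ 0)
    (hcard : Nat.card A = 2 ^ n) (h2 : ∀ a : A, a * a = 1)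
    (L : Subgroup (MulAut A)) (hcomm : ∀ k ∈ L, ∀ l ∈ L, k * l = l * k)
    (htrans : ∀ a b : A, a ≠ 1 → b ≠ 1 → ∃ k ∈ L, k a = b) {a₀ : A} (ha₀ : a₀ ≠ 1) :
    ∃ ι : A → GaloisField 2 n, Function.Bijective ι ∧ (∀ a b, ι (a * b) = ι a + ι b) ∧
      ι 1 = 0 ∧ ι a₀ = 1 ∧ ∀ k ∈ L, ∀ a, ι (k a) = ι (k a₀) * ι a := by
  classical
  haveI : Fact (Nat.Prime 2) := ⟨Nat.prime_two⟩
  have hA : ∀ a b : A, a * b = b * a := fun a b => by
    have h1 := h2 (a * b)
    calc a * b = (a * b)⁻¹ := (inv_eq_of_mul_eq_one_left h1).symm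
      _ = b⁻¹ * a⁻¹ := mul_inv_rev a b
      _ = b * a := by rw [inv_eq_of_mul_eq_one_left (h2 a), inv_eq_of_mul_eq_one_left (h2 b)]
  letI : CommGroup A := { (inferInstance : Group A) with mul_comm := hA }
  let toEnd : MulAut A → AddMonoid.End (Additive A) := fun k => MonoidHom.toAdditive k.toMonoidHom
  have toEnd_apply : ∀ k a, toEnd k (Additive.ofMul a) = Additive.ofMul (k a) := fun _ _ => rfl
  let S : Subring (AddMonoid.End (Additive A)) := Subring.closure (toEnd '' (L : Set (MulAut A)))
  have hc : IsMulCommutative S := by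
    refine Subring.isMulCommutative_closure ?_
    rintro _ ⟨k, hk, rfl⟩ _ ⟨l, hl, rfl⟩
    refine AddMonoidHom.ext fun v => ?_
    show toEnd k (toEnd l v) = toEnd l (toEnd k v)
    obtain ⟨a, rfl⟩ := Additive.ofMul.surjective v
    simp only [toEnd_apply]
    rw [← MulAut.mul_apply, hcomm k hk l hl, MulAut.mul_apply]
  have hS : ∀ r : S, ∀ k ∈ L, ∀ a : A,
      (r : AddMonoid.End (Additive A)) (Additive.ofMul (k a)) =
        toEnd k ((r : AddMonoid.End (Additive A)) (Additive.ofMul a)) := by
    intro r k hk a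
    have := congrArg Subtype.val (mul_comm' r ⟨toEnd k, Subring.subset_closure ⟨k, hk, rfl⟩⟩)
    rw [← toEnd_apply]
    exact DFunLike.congr_fun this (Additive.ofMul a)
  set v₀ : Additive A := Additive.ofMul a₀ with hv₀
  have hzero : ∀ r : S, ∀ v : Additive A, v ≠ 0 → (r : AddMonoid.End (Additive A)) v = 0 → r = 0 := by
    intro r v hv hrv
    obtain ⟨a, rfl⟩ := Additive.ofMul.surjective v
    have ha : a ≠ 1 := fun h => hv (by rw [h]; rfl)
    refine Subtype.ext (AddMonoidHom.ext fun w => ?_)
    obtain ⟨b, rfl⟩ := Additive.ofMul.surjective w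
    by_cases hb : b = 1
    · subst hb; exact map_zero _
    · obtain ⟨k, hk, rfl⟩ := htrans a b ha hb
      exact ((hS r k hk a).trans (congrArg (toEnd k) hrv)).trans (map_zero (toEnd k))
  let ev : S → Additive A := fun r => (r : AddMonoid.End (Additive A)) v₀
  have hv₀0 : v₀ ≠ 0 := fun h => ha₀ h
  have evadd : ∀ r r' : S, ev (r + r') = ev r + ev r' := fun _ _ => rfl
  have evinj : Function.Injective ev := fun r r' h => by
    have := hzero (r - r') v₀ hv₀0 (by
      show (r : AddMonoid.End (Additive A)) v₀ - (r' : AddMonoid.End (Additive A)) v₀ = 0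
      exact sub_eq_zero.2 h)
    exact sub_eq_zero.1 this
  have evsurj : Function.Surjective ev := fun v => by
    by_cases hv : v = 0
    · exact ⟨0, by subst hv; rfl⟩
    · obtain ⟨a, rfl⟩ := Additive.ofMul.surjective v
      obtain ⟨k, hk, rfl⟩ := htrans a₀ a ha₀ (fun h => hv (by rw [h]; rfl))
      exact ⟨⟨toEnd k, Subring.subset_closure ⟨k, hk, rfl⟩⟩, toEnd_apply k a₀⟩
  haveI : Finite (Additive A) := inferInstanceAs (Finite A)
  haveI : Finite S := Finite.of_injective ev evinj
  haveI : Fintype S := Fintype.ofFinite S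
  letI : CommRing S := { (inferInstance : Ring S) with mul_comm := mul_comm' }
  haveI : Nontrivial S := by
    refine ⟨⟨1, 0, fun h => hv₀0 ?_⟩⟩
    exact congrArg ev h
  haveI : NoZeroDivisors S := ⟨fun {r r'} h => by
    by_contra hne
    push Not at hne
    have h1 : (r : AddMonoid.End (Additive A)) (ev r') = 0 := congrArg ev h
    refine hne.1 (hzero r (ev r') (fun h' => hne.2 (evinj (h'.trans ?_))) h1)
    rfl⟩
  haveI : IsDomain S := NoZeroDivisors.to_isDomain S
  letI : Field S := (Finite.isField_of_domain S).toField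
  haveI : Finite (GaloisField 2 n) := inferInstance
  letI : Fintype (GaloisField 2 n) := Fintype.ofFinite _
  have hcS : Fintype.card S = Fintype.card (GaloisField 2 n) := by
    rw [← Nat.card_eq_fintype_card, Nat.card_congr (Equiv.ofBijective ev ⟨evinj, evsurj⟩),
      ← Nat.card_eq_fintype_card, GaloisField.card 2 n hn]
    exact (Nat.card_congr Additive.ofMul).symm.trans hcard
  let e : S ≃+* GaloisField 2 n := FiniteField.ringEquivOfCardEq hcS
  let evE := Equiv.ofBijective ev ⟨evinj, evsurj⟩
  have evE_symm : ∀ r, evE.symm (ev r) = r := fun r => evE.symm_apply_apply r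
  refine ⟨fun a => e (evE.symm (Additive.ofMul a)),
    e.bijective.comp (evE.symm.bijective.comp Additive.ofMul.bijective), fun a b => ?_, ?_, ?_,
    fun k hk a => ?_⟩
  · show e _ = e _ + e _
    rw [← map_add]
    congr 1
    obtain ⟨r, hr⟩ := evsurj (Additive.ofMul a)
    obtain ⟨r', hr'⟩ := evsurj (Additive.ofMul b)
    rw [← hr, ← hr', ofMul_mul, ← hr, ← hr', ← evadd, evE_symm, evE_symm, evE_symm]
  · show e (evE.symm (Additive.ofMul (1 : A))) = 0
    rw [show Additive.ofMul (1 : A) = ev 0 from rfl, evE_symm, map_zero]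
  · show e (evE.symm (Additive.ofMul a₀)) = 1
    rw [show Additive.ofMul a₀ = ev 1 from rfl, evE_symm, map_one]
  · show e _ = e _ * e _
    rw [← map_mul]
    congr 1
    obtain ⟨r, hr⟩ := evsurj (Additive.ofMul a)
    let rk : S := ⟨toEnd k, Subring.subset_closure ⟨k, hk, rfl⟩⟩
    have h1 : ev rk = Additive.ofMul (k a₀) := rfl
    have h3 : ev (rk * r) = Additive.ofMul (k a) := by
      show toEnd k (ev r) = _
      rw [hr, toEnd_apply]
    rw [← h1, ← h3, ← hr, evE_symm, evE_symm, evE_symm]

end Cfsg.Agent.Lib.Suzuki2.FieldModel
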