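import Mathlib

/-!
# Finite 2-groups with a commutative group of automorphisms transitive on the involutions

Higman's lemma: if the centre of such a group has exponent larger than 2, the group is commutative.
-/

namespace Cfsg.Agent.Lib.Suzuki2.Basic

/-- The hypothesis: `K` is commutative and transitive on the elements of order two. -/
structure TransInvol {P : Type*} [Group P] (K : Subgroup (MulAut P)) : Prop where
  comm : ∀ k ∈ K, ∀ l ∈ K, k * l = l * k
  trans : ∀ x y : P, x ≠ 1 → x * x = 1 → y ≠ 1 → y * y = 1 → ∃ k ∈ K, k x = y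

open scoped commutatorElement

variable {P : Type*} [Group P] {K : Subgroup (MulAut P)}

theorem apply_comm (hK : TransInvol K) {k l : MulAut P} (hk : k ∈ K) (hl : l ∈ K) (x : P) :
    k (l x) = l (k x) := by
  rw [← MulAut.mul_apply, hK.comm k hk l hl, MulAut.mul_apply]

theorem fix_all (hK : TransInvol K) {q : MulAut P} (hq : q ∈ K) {z : P} (hz1 : z ≠ 1)
    (hz : z * z = 1) (hqz : q z = z) {x : P} (hx : x * x = 1) : q x = x := by
  by_cases h : x = 1
  · simp [h]
  · obtain ⟨m, hm, rfl⟩ := hK.trans z x hz1 hz h hx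
    rw [apply_comm hK hq hm, hqz]

/-- An equivariant alternating biadditive map on the involutions vanishes. -/
theorem alternating_zero [Finite P] (hK : TransInvol K)
    (hcen : ∀ x y : P, x * x = 1 → y * y = 1 → x * y = y * x) (β : P → P → P)
    (hval : ∀ x y, x * x = 1 → y * y = 1 → β x y * β x y = 1)
    (hl : ∀ x x' y, x * x = 1 → x' * x' = 1 → y * y = 1 → β (x * x') y = β x y * β x' y)
    (hr : ∀ x y y', x * x = 1 → y * y = 1 → y' * y' = 1 → β x (y * y') = β x y * β x y')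
    (halt : ∀ x, x * x = 1 → β x x = 1)
    (heq : ∀ k ∈ K, ∀ x y, x * x = 1 → y * y = 1 → β (k x) (k y) = k (β x y))
    {x y : P} (hx : x * x = 1) (hy : y * y = 1) : β x y = 1 := by
  have mulInv : ∀ {u v : P}, u * u = 1 → v * v = 1 → u * v * (u * v) = 1 := fun {u v} hu hv => by
    calc u * v * (u * v) = u * (v * u) * v := by group
      _ = (u * u) * (v * v) := by rw [← hcen u v hu hv]; group
      _ = 1 := by rw [hu, hv, mul_one]
  have kInv : ∀ (k : MulAut P) {u : P}, u * u = 1 → k u * k u = 1 := fun k u hu => by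
    rw [← map_mul, hu, map_one]
  have hone : ∀ u, u * u = 1 → β u 1 = 1 := fun u hu => by
    have := hr u 1 1 hu (by simp) (by simp)
    simpa using this
  have hsymm : ∀ {u v}, u * u = 1 → v * v = 1 → β v u = β u v := fun {u v} hu hv => by
    have h := halt (u * v) (mulInv hu hv)
    rw [hl u v _ hu hv (mulInv hu hv), hr u u v hu hu hv, hr v u v hv hu hv, halt u hu, halt v hv,
      one_mul, mul_one] at h
    have h2 := hval u v hu hv
    calc β v u = (β u v)⁻¹ * (β u v * β v u) := by group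
      _ = β u v := by rw [h, mul_one, inv_eq_of_mul_eq_one_left h2]
  by_cases hx1 : x = 1
  · subst hx1
    rw [hsymm hy (by simp)]; exact hone y hy
  by_cases hy1 : y = 1
  · subst hy1; exact hone x hx
  -- `x` plays the rôle of the unit element
  have key : ∀ k ∈ K, β x (k (k x)) = 1 := by
    intro k hk
    by_cases hkx : k x = x
    · rw [hkx, hkx]; exact halt x hx
    have hu := kInv k hx
    have hue : k x * x ≠ 1 := fun h => hkx (by
      calc k x = k x * (x * x) := by rw [hx, mul_one]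
        _ = x := by rw [← mul_assoc, h, one_mul])
    obtain ⟨l, hl', hlx⟩ := hK.trans x (k x * x) hx1 hx hue (mulInv hu hx)
    have hkl := K.mul_mem hk hl'
    have hlall : ∀ w, w * w = 1 → l w = k w * w := by
      intro w hw
      by_cases hw1 : w = 1
      · simp [hw1]
      · obtain ⟨m, hm, rfl⟩ := hK.trans x w hx1 hx hw1 hw
        rw [apply_comm hK hl' hm, hlx, map_mul, apply_comm hK hm hk]
    have hk' : k (k⁻¹ x) = x := k.apply_symm_apply x
    have hl'' : l (l⁻¹ x) = x := l.apply_symm_apply x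
    have hφ : ∀ n ∈ K, n (β x (n⁻¹ x)) = β x (n x) := fun n hn => by
      have h1 : n (n⁻¹ x) = x := n.apply_symm_apply x
      rw [← heq n hn x _ hx (kInv _ hx), h1, hsymm hx (kInv n hx)]
    have hux : k x * x = x * k x := hcen _ _ hu hx
    have hsum : k⁻¹ x * l⁻¹ x = (k * l)⁻¹ x := by
      apply (k * l).injective
      have h1 : (k * l) ((k * l)⁻¹ x) = x := (k * l).apply_symm_apply x
      rw [h1, map_mul, MulAut.mul_apply, MulAut.mul_apply, hl'', apply_comm hK hk hl', hk', hlx,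
        hux, mul_assoc, hu, mul_one]
    have h := congrArg (k * l) (hr x (k⁻¹ x) (l⁻¹ x) hx (kInv _ hx) (kInv _ hx))
    rw [hsum, hφ _ hkl, map_mul, MulAut.mul_apply, MulAut.mul_apply, MulAut.mul_apply,
      apply_comm hK hk hl' (β x (k⁻¹ x)), hφ k hk, hφ l hl'] at h
    rw [show k (l x) = k (k x) * k x by rw [hlx, map_mul]] at h
    have hv : β x (l x) = β x (k x) := by rw [hlx, hr x _ x hx hu hx, halt x hx, mul_one]
    rw [hv, hr x _ _ hx (kInv k hu) hu] at h
    set v := β x (k x) with hvdef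
    have hvv : v * v = 1 := hval x _ hx hu
    have hkv := kInv k hvv
    rw [hlall v hvv, hcen (k v) v hkv hvv, mul_assoc, hkv, mul_one] at h
    simpa using h
  -- `m x ↦ m (m x)` is onto the involutions
  haveI : Finite {w : P // w ≠ 1 ∧ w * w = 1} := Subtype.finite
  choose m hm hmx using fun w : {w : P // w ≠ 1 ∧ w * w = 1} => hK.trans x w.1 hx1 hx w.2.1 w.2.2
  let F : {w : P // w ≠ 1 ∧ w * w = 1} → {w : P // w ≠ 1 ∧ w * w = 1} := fun w =>
    ⟨m w w.1, fun h => w.2.1 (by simpa using h), kInv _ w.2.2⟩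
  have hF : Function.Injective F := by
    intro u v huv
    have huv' : m u u.1 = m v v.1 := congrArg Subtype.val huv
    set q := (m v)⁻¹ * m u with hq
    have hqK : q ∈ K := K.mul_mem (K.inv_mem (hm v)) (hm u)
    have hmu : ∀ w, m u w = m v (q w) := fun w => by
      rw [hq, ← MulAut.mul_apply, mul_inv_cancel_left]
    have hqq : q (q x) = x := by
      have h1 : m v (m v (q (q x))) = m v (m v x) := by
        conv_rhs => rw [hmx v, ← huv', ← hmx u, hmu (m u x), hmu x, apply_comm hK hqK (hm v)]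
      exact (m v).injective ((m v).injective h1)
    have hqx : q x = x := by
      by_contra hne
      have hz1 : x * q x ≠ 1 := fun h => hne (by
        calc q x = x * x * q x := by rw [hx, one_mul]
          _ = x := by rw [mul_assoc, h, mul_one])
      have hz := mulInv hx (kInv q hx)
      have := fix_all hK hqK hz1 hz (by rw [map_mul, hqq, hcen _ _ (kInv q hx) hx]) hx
      exact hne this
    apply Subtype.ext
    rw [← hmx u, ← hmx v, hmu x, hqx]
  obtain ⟨w, hw⟩ := Finite.surjective_of_injective hF ⟨y, hy1, hy⟩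
  have hw' : m w w.1 = y := congrArg Subtype.val hw
  have := key (m w) (hm w)
  rwa [hmx w, hw'] at this

theorem exists_pow_two_eq_one [Finite P] (hP : IsPGroup 2 P) :
    ∃ n : ℕ, ∀ x : P, x ^ 2 ^ n = 1 := by
  obtain ⟨n, hn⟩ := IsPGroup.iff_card.1 hP
  exact ⟨n, fun x => by rw [← hn]; exact pow_card_eq_one'⟩

theorem exists_involution_pow [Finite P] (hP : IsPGroup 2 P) {x : P} (hx : x ≠ 1) :
    ∃ j : ℕ, x ^ 2 ^ j ≠ 1 ∧ x ^ 2 ^ j * x ^ 2 ^ j = 1 := by
  classical
  obtain ⟨n, hn⟩ := exists_pow_two_eq_one hP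
  have hex : ∃ j, x ^ 2 ^ j = 1 := ⟨n, hn x⟩
  have h0 : Nat.find hex ≠ 0 := fun h => hx (by simpa [h] using Nat.find_spec hex)
  refine ⟨Nat.find hex - 1, Nat.find_min hex (by omega), ?_⟩
  rw [← pow_add, ← two_mul, ← pow_succ', show Nat.find hex - 1 + 1 = Nat.find hex by omega]
  exact Nat.find_spec hex

theorem involution_central [Finite P] (hP : IsPGroup 2 P) (hK : TransInvol K) {x : P}
    (hx : x * x = 1) : x ∈ Subgroup.center P := by
  by_cases hx1 : x = 1
  · simp [hx1]
  haveI : Nontrivial P := ⟨⟨x, 1, hx1⟩⟩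
  haveI : Fact (Nat.Prime 2) := ⟨Nat.prime_two⟩
  haveI := hP.center_nontrivial
  obtain ⟨⟨z, hz⟩, hz1⟩ := exists_ne (1 : Subgroup.center P)
  obtain ⟨j, hj1, hj⟩ := exists_involution_pow hP (x := z) fun h => hz1 (Subtype.ext h)
  obtain ⟨k, -, hk⟩ := hK.trans _ x hj1 hj hx1 hx
  rw [← hk]
  have hmem := Subgroup.pow_mem _ hz (2 ^ j)
  rw [Subgroup.mem_center_iff] at hmem ⊢
  intro g
  rw [← k.apply_symm_apply g, ← map_mul, hmem, map_mul]

theorem apply_center (k : MulAut P) {z : P} (hz : z ∈ Subgroup.center P) :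
    k z ∈ Subgroup.center P := by
  rw [Subgroup.mem_center_iff] at hz ⊢
  intro g
  rw [← k.apply_symm_apply g, ← map_mul, hz, map_mul]

/-- Roots of involutions inside a characteristic commutative subset of top exponent `2 ^ e`:
every element killed by `2 ^ (e - 1)` is a square there. -/
theorem central_of_pow [Finite P] (hP : IsPGroup 2 P) (hK : TransInvol K) {e : ℕ} {z₀ : P}
    (hz₀ : z₀ ∈ Subgroup.center P) (he : z₀ ^ 2 ^ e ≠ 1) (he' : z₀ ^ 2 ^ (e + 1) = 1) :
    ∀ f ≤ e + 1, ∀ x : P, x ^ 2 ^ f = 1 → x ∈ Subgroup.center P := by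
  intro f
  induction f with
  | zero => intro _ x hx; simp at hx; simp [hx]
  | succ f ih =>
    intro hf x hx
    by_cases h : x ^ 2 ^ f = 1
    · exact ih (by omega) x h
    have hsq : x ^ 2 ^ f * x ^ 2 ^ f = 1 := by rw [← pow_add, ← two_mul, ← pow_succ', hx]
    obtain ⟨k, -, hk⟩ := hK.trans _ _ he (by rw [← pow_add, ← two_mul, ← pow_succ', he']) h hsq
    set z := k z₀ ^ 2 ^ (e - f) with hzdef
    have hzc : z ∈ Subgroup.center P := Subgroup.pow_mem _ (apply_center k hz₀) _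
    have hzf : z ^ 2 ^ f = x ^ 2 ^ f := by
      rw [hzdef, ← pow_mul, ← pow_add, show e - f + f = e by omega, ← map_pow, hk]
    have hcomm : Commute x z⁻¹ := Subgroup.mem_center_iff.1 (Subgroup.inv_mem _ hzc) x
    have := ih (by omega) (x * z⁻¹) (by rw [hcomm.mul_pow, inv_pow, hzf, mul_inv_cancel])
    simpa using Subgroup.mul_mem _ this hzc

theorem square_of_pow {A : Type*} [Group A] {L : Subgroup (MulAut A)}
    (hL : TransInvol L) (hcomm : ∀ a b : A, a * b = b * a) {g : ℕ} {r₀ : A}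
    (hg : r₀ ^ 2 ^ g ≠ 1) (hg' : r₀ ^ 2 ^ (g + 1) = 1) :
    ∀ f ≤ g, ∀ x : A, x ^ 2 ^ f = 1 → ∃ y, x = y * y := by
  intro f
  induction f with
  | zero => intro _ x hx; simp at hx; exact ⟨1, by simp [hx]⟩
  | succ f ih =>
    intro hf x hx
    by_cases h : x ^ 2 ^ f = 1
    · exact ih (by omega) x h
    have hsq : x ^ 2 ^ f * x ^ 2 ^ f = 1 := by rw [← pow_add, ← two_mul, ← pow_succ', hx]
    obtain ⟨k, -, hk⟩ := hL.trans _ _ hg (by rw [← pow_add, ← two_mul, ← pow_succ', hg']) h hsq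
    set r := k r₀ ^ 2 ^ (g - f - 1) with hrdef
    have hrf : (r * r) ^ 2 ^ f = x ^ 2 ^ f := by
      rw [hrdef, ← pow_add, ← two_mul, ← pow_succ', ← pow_mul, ← pow_add,
        show g - f - 1 + 1 + f = g by omega, ← map_pow, hk]
    obtain ⟨y, hy⟩ := ih (by omega) (x * (r * r)⁻¹) (by
      rw [Commute.mul_pow (hcomm _ _), inv_pow, hrf, mul_inv_cancel])
    refine ⟨y * r, ?_⟩
    calc x = x * (r * r)⁻¹ * (r * r) := by group
      _ = y * (y * r) * r := by rw [hy]; group
      _ = _ := by rw [hcomm y (y * r)]; group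

/-- The automorphism of the central quotient induced by an automorphism. -/
noncomputable def quotAut (P : Type*) [Group P] : MulAut P →* MulAut (P ⧸ Subgroup.center P) where
  toFun k := QuotientGroup.congr _ _ k (by
    ext z
    refine ⟨?_, fun hz => ⟨k⁻¹ z, apply_center _ hz, k.apply_symm_apply z⟩⟩
    rintro ⟨w, hw, rfl⟩
    exact apply_center k hw)
  map_one' := by
    ext x
    obtain ⟨x, rfl⟩ := QuotientGroup.mk_surjective x
    rfl
  map_mul' k l := by
    ext x
    obtain ⟨x, rfl⟩ := QuotientGroup.mk_surjective x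
    rfl

@[simp] theorem quotAut_mk (k : MulAut P) (x : P) :
    quotAut P k (x : P ⧸ Subgroup.center P) = ((k x : P) : P ⧸ Subgroup.center P) := rfl

theorem mk_mem_center_iff {x : P} :
    (x : P ⧸ Subgroup.center P) ∈ Subgroup.center (P ⧸ Subgroup.center P) ↔
      ∀ y : P, ⁅x, y⁆ ∈ Subgroup.center P := by
  rw [Subgroup.mem_center_iff]
  constructor
  · intro h y
    rw [← QuotientGroup.eq_one_iff]
    have := h y
    rw [commutatorElement_def, QuotientGroup.mk_mul, QuotientGroup.mk_mul, QuotientGroup.mk_mul,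
      QuotientGroup.mk_inv, QuotientGroup.mk_inv, ← this]
    group
  · intro h y
    obtain ⟨y, rfl⟩ := QuotientGroup.mk_surjective y
    have := (QuotientGroup.eq_one_iff _).2 (h y)
    rw [commutatorElement_def, QuotientGroup.mk_mul, QuotientGroup.mk_mul, QuotientGroup.mk_mul,
      QuotientGroup.mk_inv, QuotientGroup.mk_inv, mul_inv_eq_one, mul_inv_eq_iff_eq_mul] at this
    exact this.symm

theorem comm_elem_mul_left {x y z : P} (h : ⁅y, z⁆ ∈ Subgroup.center P) :
    ⁅x * y, z⁆ = ⁅x, z⁆ * ⁅y, z⁆ := by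
  rw [Subgroup.mem_center_iff.1 h]
  calc ⁅x * y, z⁆ = x * ⁅y, z⁆ * x⁻¹ * ⁅x, z⁆ := by simp only [commutatorElement_def]; group
    _ = _ := by rw [Subgroup.mem_center_iff.1 h x]; group

/-- Where `⁅x, z⁆` is central and `z² ∈ Z(P)`, the commutator is an involution. -/
theorem comm_sq {x z : P} (h : ⁅x, z⁆ ∈ Subgroup.center P) (hx : x * x ∈ Subgroup.center P) :
    ⁅x, z⁆ * ⁅x, z⁆ = 1 := by
  rw [← comm_elem_mul_left h, commutatorElement_def, ← Subgroup.mem_center_iff.1 hx z]
  group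

/-- The case of class at most two of Higman's lemma. -/
theorem comm_of_classTwo [Finite P] (hP : IsPGroup 2 P) (hK : TransInvol K) {e : ℕ} {z₀ : P}
    (hz₀ : z₀ ∈ Subgroup.center P) (he1 : 1 ≤ e) (he : z₀ ^ 2 ^ e ≠ 1)
    (he' : ∀ z ∈ Subgroup.center P, z ^ 2 ^ (e + 1) = 1)
    (hq : TransInvol (K.map (quotAut P))) (h2 : ∀ x y : P, ⁅x, y⁆ ∈ Subgroup.center P) :
    ∀ x y : P, x * y = y * x := by
  classical
  have hc : ∀ {c : P}, c ∈ Subgroup.center P → ∀ g, g * c = c * g := fun h g =>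
    Subgroup.mem_center_iff.1 h g
  have addl : ∀ x x' y : P, ⁅x * x', y⁆ = ⁅x, y⁆ * ⁅x', y⁆ := fun x x' y =>
    comm_elem_mul_left (h2 x' y)
  have addr : ∀ x y y' : P, ⁅x, y * y'⁆ = ⁅x, y⁆ * ⁅x, y'⁆ := fun x y y' => by
    rw [← commutatorElement_inv (y * y') x, addl, mul_inv_rev, commutatorElement_inv,
      commutatorElement_inv, hc (h2 x y)]
  have cpow : ∀ (n : ℕ) (x y : P), ⁅x ^ n, y⁆ = ⁅x, y⁆ ^ n := fun n x y => by
    induction n with
    | zero => simp [commutatorElement_def]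
    | succ n ih => rw [pow_succ, addl, ih, pow_succ]
  have cone : ∀ {z : P} (y : P), z ∈ Subgroup.center P → ⁅z, y⁆ = 1 := fun {z} y hz => by
    rw [commutatorElement_def, ← hc hz y]; group
  obtain ⟨n, hn⟩ := exists_pow_two_eq_one hP
  have hex : ∃ m, ∀ x y : P, ⁅x, y⁆ ^ 2 ^ m = 1 := ⟨n, fun x y => hn _⟩
  rcases Nat.eq_zero_or_pos (Nat.find hex) with hm0 | hm0
  · intro x y
    have := Nat.find_spec hex x y
    rw [hm0, pow_zero, pow_one] at this
    exact commutatorElement_eq_one_iff_mul_comm.1 this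
  exfalso
  obtain ⟨m, hm⟩ : ∃ m, Nat.find hex = m + 1 := ⟨Nat.find hex - 1, by omega⟩
  have hspec : ∀ x y : P, ⁅x, y⁆ ^ 2 ^ (m + 1) = 1 := hm ▸ Nat.find_spec hex
  obtain ⟨x₀, y₀, hxy⟩ : ∃ x y : P, ⁅x, y⁆ ^ 2 ^ m ≠ 1 := by
    have := Nat.find_min hex (show m < Nat.find hex by omega)
    push Not at this
    exact this
  set d : P → P → P := fun x y => ⁅x, y⁆ ^ 2 ^ m with hd
  have hA : ∀ a b : P ⧸ Subgroup.center P, a * b = b * a := fun a b => by
    obtain ⟨b, rfl⟩ := QuotientGroup.mk_surjective b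
    obtain ⟨a, rfl⟩ := QuotientGroup.mk_surjective a
    exact (Subgroup.mem_center_iff.1 (mk_mem_center_iff.2 (h2 a)) b).symm
  have hex' : ∃ g, ∀ a : P, a ^ 2 ^ g ∈ Subgroup.center P := ⟨n, fun a => by simp [hn a]⟩
  have hg0 : Nat.find hex' ≠ 0 := fun h => by
    have := Nat.find_spec hex' x₀
    rw [h, pow_zero, pow_one] at this
    exact hxy (by rw [cone y₀ this, one_pow])
  obtain ⟨g, hg⟩ : ∃ g, Nat.find hex' = g + 1 := ⟨Nat.find hex' - 1, by omega⟩
  have hgspec : ∀ a : P, a ^ 2 ^ (g + 1) ∈ Subgroup.center P := hg ▸ Nat.find_spec hex'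
  obtain ⟨r₀, hr₀⟩ : ∃ r : P, r ^ 2 ^ g ∉ Subgroup.center P := by
    have := Nat.find_min hex' (show g < Nat.find hex' by omega)
    push Not at this
    exact this
  set σ : P → P := fun a => (a ^ 2 ^ (g + 1)) ^ 2 ^ e with hσ
  have hexp : ∀ a b : P, ⁅a, b⁆ ^ 2 ^ (g + 1) = 1 := fun a b => by
    rw [← cpow, cone b (hgspec a)]
  have two : ∀ (k : ℕ) (a b : P), (a * b) ^ k = a ^ k * b ^ k * ⁅b, a⁆ ^ (k.choose 2) := by
    intro k a b
    induction k with
    | zero => simp
    | succ k ih =>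
      have hz : ⁅b, a⁆ ^ (k.choose 2) ∈ Subgroup.center P := Subgroup.pow_mem _ (h2 b a) _
      have hz' : ⁅b, a⁆ ^ k ∈ Subgroup.center P := Subgroup.pow_mem _ (h2 b a) _
      have h1 : b ^ k * a = a * b ^ k * ⁅b, a⁆ ^ k := by
        rw [← cpow, hc (h2 _ a), commutatorElement_def]; group
      rw [pow_succ (a * b), ih, Nat.choose_succ_succ', Nat.choose_one_right, pow_add]
      calc a ^ k * b ^ k * ⁅b, a⁆ ^ k.choose 2 * (a * b)
          = a ^ k * (b ^ k * a) * b * ⁅b, a⁆ ^ k.choose 2 := by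
            rw [mul_assoc (a ^ k * b ^ k), ← hc hz (a * b)]; group
        _ = a ^ k * a * b ^ k * (⁅b, a⁆ ^ k * b) * ⁅b, a⁆ ^ k.choose 2 := by rw [h1]; group
        _ = _ := by rw [← hc hz' b, pow_succ, pow_succ]; group
  have σmul : ∀ a b, σ (a * b) = σ a * σ b := fun a b => by
    simp only [hσ, ← pow_mul, ← pow_add]
    rw [two]
    suffices ⁅b, a⁆ ^ (2 ^ (g + 1 + e)).choose 2 = 1 by rw [this, mul_one]
    obtain ⟨c, hc'⟩ : 2 ^ (g + 1) ∣ (2 ^ (g + 1 + e)).choose 2 := by
      rw [Nat.choose_two_right, show g + 1 + e = (g + 1) + (e - 1) + 1 by omega, pow_succ' 2 ((g + 1) + (e - 1)),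
        mul_assoc, Nat.mul_div_cancel_left _ (by norm_num)]
      exact dvd_mul_of_dvd_left (Nat.pow_dvd_pow 2 (Nat.le_add_right _ _)) _
    rw [hc', pow_mul, hexp, one_pow]
  have σinv : ∀ a, σ a * σ a = 1 := fun a => by
    simp only [hσ]
    rw [← pow_add, ← two_mul, ← pow_succ', he' _ (hgspec a)]
  have σker : ∀ a, σ a = 1 → ∃ y z, z ∈ Subgroup.center P ∧ a = y * y * z := by
    intro a ha
    have h1 : a ^ 2 ^ g ∈ Subgroup.center P := by
      refine central_of_pow hP hK hz₀ he (he' _ hz₀) (e + 1) le_rfl _ ?_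
      rw [← pow_mul, ← pow_add, show g + (e + 1) = g + 1 + e by omega, pow_add, pow_mul]
      exact ha
    obtain ⟨y, hy⟩ := square_of_pow hq hA (r₀ := (r₀ : P ⧸ Subgroup.center P))
      (by rwa [← QuotientGroup.mk_pow, Ne, QuotientGroup.eq_one_iff])
      (by rw [← QuotientGroup.mk_pow, QuotientGroup.eq_one_iff]; exact hgspec r₀) g le_rfl a
      (by rwa [← QuotientGroup.mk_pow, QuotientGroup.eq_one_iff])
    obtain ⟨y, rfl⟩ := QuotientGroup.mk_surjective y
    rw [← QuotientGroup.mk_mul] at hy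
    exact ⟨y, (y * y)⁻¹ * a, QuotientGroup.eq.1 hy.symm, by group⟩
  have dmulL : ∀ a a' b, d (a * a') b = d a b * d a' b := fun a a' b => by
    simp only [hd]
    rw [addl, (show Commute ⁅a, b⁆ ⁅a', b⁆ from hc (h2 a' b) _).mul_pow]
  have dmulR : ∀ a b b', d a (b * b') = d a b * d a b' := fun a b b' => by
    simp only [hd]
    rw [addr, (show Commute ⁅a, b⁆ ⁅a, b'⁆ from hc (h2 a b') _).mul_pow]
  have dinv : ∀ a b, d a b * d a b = 1 := fun a b => by
    simp only [hd]
    rw [← pow_add, ← two_mul, ← pow_succ', hspec]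
  have dflip : ∀ a b, d b a = (d a b)⁻¹ := fun a b => by
    simp only [hd]
    rw [← commutatorElement_inv, inv_pow]
  have dker : ∀ a, σ a = 1 → ∀ b, d a b = 1 := by
    intro a ha b
    obtain ⟨y, z, hz, rfl⟩ := σker a ha
    rw [dmulL, dmulL, dinv, one_mul]
    simp [hd, cone b hz]
  have dwd : ∀ a a', σ a = σ a' → ∀ b, d a b = d a' b := by
    intro a a' h b
    have h1 : σ (a⁻¹ * a') = 1 := by
      have h2 : σ a * σ (a⁻¹ * a') = σ a := by rw [← σmul, mul_inv_cancel_left, h]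
      simpa using h2
    calc d a b = d a b * d (a⁻¹ * a') b := by rw [dker _ h1, mul_one]
      _ = _ := by rw [← dmulL, mul_inv_cancel_left]
  have dwd' : ∀ a a' b b', σ a = σ a' → σ b = σ b' → d a b = d a' b' := by
    intro a a' b b' h h'
    rw [dwd a a' h b, dflip b a', dwd b b' h' a', ← dflip b' a']
  have σ1 : σ 1 = 1 := by simp [hσ]
  have σk : ∀ (k : MulAut P) a, σ (k a) = k (σ a) := fun k a => by simp [hσ]
  have σr₀ : σ r₀ ≠ 1 := fun h => by
    apply hr₀
    refine central_of_pow hP hK hz₀ he (he' _ hz₀) (e + 1) le_rfl _ ?_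
    rw [← pow_mul, ← pow_add, show g + (e + 1) = g + 1 + e by omega, pow_add, pow_mul]
    exact h
  have hsurj : ∀ i : P, ∃ a, i * i = 1 → σ a = i := fun i => by
    by_cases hi : i ≠ 1 ∧ i * i = 1
    · obtain ⟨k, -, hk⟩ := hK.trans _ i σr₀ (σinv r₀) hi.1 hi.2
      exact ⟨k r₀, fun _ => (σk k r₀).trans hk⟩
    · exact ⟨1, fun h => by
        have : i = 1 := by by_contra h'; exact hi ⟨h', h⟩
        rw [σ1, this]⟩
  choose s hs using hsurj
  have key := alternating_zero hK (fun a b ha _ => (hc (involution_central hP hK ha) b).symm)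
    (fun i j => d (s i) (s j)) (fun i j _ _ => dinv _ _)
    (fun i i' j hi hi' hj => by
      rw [← dmulL]
      refine dwd' _ _ _ _ ?_ rfl
      rw [σmul, hs _ hi, hs _ hi', hs _ (by
        rw [show i * i' * (i * i') = i * (i' * i) * i' by group, hc (involution_central hP hK hi) i',
          show i * (i * i') * i' = (i * i) * (i' * i') by group, hi, hi', mul_one])])
    (fun i j j' hi hj hj' => by
      rw [← dmulR]
      refine dwd' _ _ _ _ rfl ?_
      rw [σmul, hs _ hj, hs _ hj', hs _ (by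
        rw [show j * j' * (j * j') = j * (j' * j) * j' by group, hc (involution_central hP hK hj) j',
          show j * (j * j') * j' = (j * j) * (j' * j') by group, hj, hj', mul_one])])
    (fun i _ => by simp [hd, commutatorElement_def])
    (fun k _ i j hi hj => by
      simp only [hd, map_pow, map_commutatorElement]
      exact dwd' _ _ _ _ (by rw [σk, hs _ hi, hs _ (by rw [← map_mul, hi, map_one])])
        (by rw [σk, hs _ hj, hs _ (by rw [← map_mul, hj, map_one])]))
    (σinv x₀) (σinv y₀)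
  rw [dwd' _ x₀ _ y₀ (hs _ (σinv x₀)) (hs _ (σinv y₀))] at key
  exact hxy key

/-- Lifts of involutions of the central quotient are permuted transitively. -/
theorem quot_trans [Finite P] (hP : IsPGroup 2 P) (hK : TransInvol K) {e : ℕ} {z₀ : P}
    (hz₀ : z₀ ∈ Subgroup.center P) (he1 : 1 ≤ e) (he : z₀ ^ 2 ^ e ≠ 1)
    (he' : ∀ z ∈ Subgroup.center P, z ^ 2 ^ (e + 1) = 1) :
    TransInvol (K.map (quotAut P)) := by
  constructor
  · rintro _ ⟨k, hk, rfl⟩ _ ⟨l, hl, rfl⟩
    rw [← map_mul, hK.comm k hk l hl, map_mul]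
  intro x y hx1 hx hy1 hy
  haveI : Nontrivial (P ⧸ Subgroup.center P) := ⟨⟨x, 1, hx1⟩⟩
  haveI : Fact (Nat.Prime 2) := ⟨Nat.prime_two⟩
  have hPQ : IsPGroup 2 (P ⧸ Subgroup.center P) := hP.to_quotient _
  haveI := hPQ.center_nontrivial
  obtain ⟨⟨u, hu⟩, hu1⟩ := exists_ne (1 : Subgroup.center (P ⧸ Subgroup.center P))
  obtain ⟨j, hj1, hj⟩ := exists_involution_pow hPQ (x := u) fun h => hu1 (Subtype.ext h)
  obtain ⟨w, hw⟩ := QuotientGroup.mk_surjective (u ^ 2 ^ j)
  rw [← hw] at hj1 hj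
  have hwc := mk_mem_center_iff.1 (hw ▸ Subgroup.pow_mem _ hu (2 ^ j))
  rw [Ne, QuotientGroup.eq_one_iff] at hj1
  rw [← QuotientGroup.mk_mul, QuotientGroup.eq_one_iff] at hj
  have inv_ω : ∀ a : P, a * a ∈ Subgroup.center P →
      (a * a) ^ 2 ^ e * (a * a) ^ 2 ^ e = 1 := fun a ha => by
    rw [← pow_add, ← two_mul, ← pow_succ', he' _ ha]
  have ne_ω : ∀ a : P, a ∉ Subgroup.center P → (a * a) ^ 2 ^ e ≠ 1 := fun a ha h => ha (by
    refine central_of_pow hP hK hz₀ he (he' _ hz₀) (e + 1) le_rfl a ?_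
    rwa [← sq, ← pow_mul, ← pow_succ'] at h)
  have main : ∀ z : P ⧸ Subgroup.center P, z ≠ 1 → z * z = 1 →
      ∃ k ∈ K, quotAut P k (w : P ⧸ Subgroup.center P) = z := by
    intro z hz1 hz
    obtain ⟨a, rfl⟩ := QuotientGroup.mk_surjective z
    rw [Ne, QuotientGroup.eq_one_iff] at hz1
    rw [← QuotientGroup.mk_mul, QuotientGroup.eq_one_iff] at hz
    obtain ⟨k, hk, hkw⟩ := hK.trans _ _ (ne_ω w hj1) (inv_ω w hj) (ne_ω a hz1) (inv_ω a hz)
    refine ⟨k, hk, ?_⟩
    rw [quotAut_mk, QuotientGroup.eq]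
    set b := (k w)⁻¹ with hb
    have hb2 : b * b ∈ Subgroup.center P := by
      rw [hb, ← mul_inv_rev, ← map_mul]; exact Subgroup.inv_mem _ (apply_center k hj)
    have hbc : ∀ v, ⁅b, v⁆ ∈ Subgroup.center P := by
      refine mk_mem_center_iff.1 ?_
      rw [hb, QuotientGroup.mk_inv]
      refine Subgroup.inv_mem _ (mk_mem_center_iff.2 fun v => ?_)
      have := apply_center k (hwc (k⁻¹ v))
      rwa [map_commutatorElement, show k (k⁻¹ v) = v from k.apply_symm_apply v] at this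
    have hc2 := comm_sq (hbc a) hb2
    have hcc := hbc a
    refine central_of_pow hP hK hz₀ he (he' _ hz₀) (e + 1) le_rfl (b * a) ?_
    rw [pow_succ', pow_mul, sq]
    have e1 : b * a * (b * a) = ⁅b, a⁆⁻¹ * (b * b) * (a * a) := by
      have h1 := Subgroup.mem_center_iff.1 (Subgroup.inv_mem _ hcc) b
      calc b * a * (b * a) = b * (⁅b, a⁆⁻¹ * b * a) * a := by
            simp only [commutatorElement_def]; group
        _ = (b * ⁅b, a⁆⁻¹) * (b * (a * a)) := by group
        _ = _ := by rw [h1]; group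
    rw [e1]
    have hc1 : ∀ {p q : P}, p ∈ Subgroup.center P → Commute p q := fun {p q} h =>
      (Subgroup.mem_center_iff.1 h q).symm
    rw [(hc1 (Subgroup.mul_mem _ (Subgroup.inv_mem _ hcc) hb2)).mul_pow,
      (hc1 (Subgroup.inv_mem _ hcc)).mul_pow, inv_pow,
      show e = (e - 1) + 1 by omega, pow_succ' 2 (e - 1), pow_mul ⁅b, a⁆, sq, hc2, one_pow, inv_one,
      one_mul, ← pow_succ' 2 (e - 1), ← show e = (e - 1) + 1 by omega, ← hkw, hb, ← mul_inv_rev,
      ← map_mul, inv_pow, map_pow, inv_mul_cancel]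
  obtain ⟨k, hk, rfl⟩ := main x hx1 hx
  obtain ⟨l, hl, rfl⟩ := main y hy1 hy
  refine ⟨quotAut P (l * k⁻¹), Subgroup.mem_map_of_mem _ (K.mul_mem hl (K.inv_mem hk)), ?_⟩
  rw [← MulAut.mul_apply, ← map_mul, inv_mul_cancel_right]

universe u

private theorem higman_aux : ∀ n : ℕ, ∀ (P : Type u) [Group P] [Finite P] (K : Subgroup (MulAut P)),
    Nat.card P = n → IsPGroup 2 P → TransInvol K → (∃ z ∈ Subgroup.center P, z * z ≠ 1) →
    ∀ x y : P, x * y = y * x := by
  classical
  intro n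
  induction n using Nat.strong_induction_on with
  | _ n ih =>
    intro P _ _ K hn hP hK hex
    obtain ⟨z, hzc, hz2⟩ := hex
    haveI : Fact (Nat.Prime 2) := ⟨Nat.prime_two⟩
    obtain ⟨N, hN⟩ := exists_pow_two_eq_one hP
    have hexE : ∃ m, ∀ z ∈ Subgroup.center P, z ^ 2 ^ m = 1 := ⟨N, fun z _ => hN z⟩
    have h2le : 2 ≤ Nat.find hexE := by
      by_contra h
      have hs := Nat.find_spec hexE z hzc
      obtain h | h : Nat.find hexE = 0 ∨ Nat.find hexE = 1 := by omega
      · rw [h, pow_zero, pow_one] at hs; exact hz2 (by simp [hs])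
      · rw [h, pow_one, sq] at hs; exact hz2 hs
    obtain ⟨e, he⟩ : ∃ e, Nat.find hexE = e + 1 := ⟨Nat.find hexE - 1, by omega⟩
    have he' : ∀ z ∈ Subgroup.center P, z ^ 2 ^ (e + 1) = 1 := he ▸ Nat.find_spec hexE
    obtain ⟨z₀, hz₀, hz₀e⟩ : ∃ z ∈ Subgroup.center P, z ^ 2 ^ e ≠ 1 := by
      have := Nat.find_min hexE (show e < Nat.find hexE by omega)
      push Not at this
      exact this
    have he1 : 1 ≤ e := by omega
    have hq := quot_trans hP hK hz₀ he1 hz₀e he'
    by_cases hc2 : ∀ x y : P, ⁅x, y⁆ ∈ Subgroup.center P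
    · exact comm_of_classTwo hP hK hz₀ he1 hz₀e he' hq hc2
    exfalso
    let Q := P ⧸ Subgroup.center P
    have hPQ : IsPGroup 2 Q := hP.to_quotient _
    have hnc : ¬ ∀ x y : Q, x * y = y * x := fun h => hc2 fun x =>
      mk_mem_center_iff.1 (Subgroup.mem_center_iff.2 fun y => h y _)
    have hel : ∀ q ∈ Subgroup.center Q, q * q = 1 := by
      by_contra h
      push Not at h
      refine hnc (ih (Nat.card Q) ?_ Q _ rfl hPQ hq h)
      rw [← hn, Subgroup.card_eq_card_quotient_mul_card_subgroup (Subgroup.center P)]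
      refine lt_mul_of_one_lt_right Nat.card_pos ?_
      rw [← Subgroup.index_bot]
      haveI : Nontrivial (Subgroup.center P) := ⟨⟨⟨z, hzc⟩, 1, fun h => hz2 (by simp [Subtype.ext_iff] at h; simp [h])⟩⟩
      simpa using Finite.one_lt_card (α := Subgroup.center P)
    haveI : Nontrivial (Q ⧸ Subgroup.center Q) := by
      rw [← not_subsingleton_iff_nontrivial]
      intro h
      refine hnc fun x y => (Subgroup.mem_center_iff.1 ?_ x)
      rw [← QuotientGroup.eq_one_iff]
      exact Subsingleton.elim _ _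
    haveI := (hPQ.to_quotient (Subgroup.center Q)).center_nontrivial
    obtain ⟨⟨qq, hqq⟩, hqq1⟩ := exists_ne (1 : Subgroup.center (Q ⧸ Subgroup.center Q))
    obtain ⟨q, rfl⟩ := QuotientGroup.mk_surjective qq
    obtain ⟨y, rfl⟩ := QuotientGroup.mk_surjective q
    have hy1 : (y : Q) ∉ Subgroup.center Q := fun h => hqq1 (Subtype.ext ((QuotientGroup.eq_one_iff _).2 h))
    have hy2 : ∀ x : P, ((⁅y, x⁆ : P) : Q) ∈ Subgroup.center Q := fun x => by
      have := mk_mem_center_iff.1 hqq ((x : P) : Q)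
      exact this
    have hsq : ∀ {v : P}, (v : Q) ∈ Subgroup.center Q → v * v ∈ Subgroup.center P := fun {v} hv =>
      (QuotientGroup.eq_one_iff _).1 (hel _ hv)
    have hmulcc : ∀ x : P, ⁅y * y, x⁆ = ⁅y, ⁅y, x⁆⁆ * (⁅y, x⁆ * ⁅y, x⁆) := fun x => by
      simp only [commutatorElement_def]; group
      done
    have hyc : ∀ x : P, ⁅y, ⁅y, x⁆⁆ ∈ Subgroup.center P := fun x => by
      rw [← commutatorElement_inv]
      exact Subgroup.inv_mem _ (mk_mem_center_iff.1 (hy2 x) y)
    have hyy : ((y * y : P) : Q) ∈ Subgroup.center Q := mk_mem_center_iff.2 fun x => by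
      rw [hmulcc]
      exact Subgroup.mul_mem _ (hyc x) (hsq (hy2 x))
    refine hy1 (mk_mem_center_iff.2 fun x => ?_)
    set c := ⁅y, x⁆ with hc
    have h1 : ⁅y * y, x⁆ * ⁅y * y, x⁆ = 1 := comm_sq (mk_mem_center_iff.1 hyy x) (hsq hyy)
    have h2 : ⁅y, c⁆ * ⁅y, c⁆ = 1 := by
      have := comm_sq (mk_mem_center_iff.1 (hy2 x) y) (hsq (hy2 x))
      rw [← commutatorElement_inv, ← mul_inv_rev, this, inv_one]
    have h4 : c * c * (c * c) = 1 := by
      have e1 : c * c = ⁅y, c⁆ * ⁅y * y, x⁆ := by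
        rw [hmulcc x, ← hc, ← mul_assoc, h2, one_mul]
      rw [e1, mul_assoc, ← mul_assoc ⁅y * y, x⁆, Subgroup.mem_center_iff.1 (hyc x) ⁅y * y, x⁆,
        mul_assoc, h1, mul_one, h2]
    refine central_of_pow hP hK hz₀ hz₀e (he' _ hz₀) 2 (by omega) c ?_
    rw [show (2 : ℕ) ^ 2 = 2 + 2 by norm_num, pow_add, sq]
    exact h4

/-- Higman's lemma: if the centre has exponent larger than two then the group is commutative. -/
theorem higman {P : Type u} [Group P] [Finite P] {K : Subgroup (MulAut P)} (hP : IsPGroup 2 P)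
    (hK : TransInvol K) {z : P} (hz : z ∈ Subgroup.center P) (hz2 : z * z ≠ 1) :
    ∀ x y : P, x * y = y * x :=
  higman_aux _ P K rfl hP hK ⟨z, hz, hz2⟩

theorem center_sq_eq_one {P : Type u} [Group P] [Finite P] {K : Subgroup (MulAut P)}
    (hP : IsPGroup 2 P) (hK : TransInvol K) (hnc : ∃ x y : P, x * y ≠ y * x) {z : P}
    (hz : z ∈ Subgroup.center P) : z * z = 1 := by
  by_contra h
  obtain ⟨x, y, hxy⟩ := hnc
  exact hxy (higman hP hK hz h x y)

end Cfsg.Agent.Lib.Suzuki2.Basic
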