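import Cfsg.Agent.Lib.Suzuki2.Squares

/-!
# The order of a Suzuki 2-group

An anisotropic quadratic map from GF(2)^d to GF(2)^n has d ≤ 2n (Chevalley–Warning).
-/

namespace Cfsg.Agent.Lib.Suzuki2.Anisotropic

open scoped commutatorElement
open MvPolynomial in
theorem bound {d n : ℕ} (Q : (Fin d → ZMod 2) → (Fin n → ZMod 2))
    (B : (Fin d → ZMod 2) → (Fin d → ZMod 2) → (Fin n → ZMod 2))
    (hQ : ∀ x y, Q (x + y) = Q x + Q y + B x y) (hB : ∀ x x' y, B (x + x') y = B x y + B x' y)
    (hsymm : ∀ x y, B x y = B y x) (hdef : ∀ x, Q x = 0 → x = 0) : d ≤ 2 * n := by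
  classical
  by_contra hlt
  let e : Fin d → (Fin d → ZMod 2) := fun i => Pi.single i 1
  let M : Fin n → Fin d → Fin d → ZMod 2 := fun j i k =>
    if i < k then B (e i) (e k) j else if i = k then Q (e i) j else 0
  let f : Fin n → MvPolynomial (Fin d) (ZMod 2) := fun j =>
    ∑ i, ∑ k, C (M j i k) * (X i * X k)
  have h2 : ∀ u : Fin n → ZMod 2, u + u = 0 := fun u => funext fun j => CharTwo.add_self_eq_zero _
  have hQ0 : Q 0 = 0 := by
    have h := hQ 0 0
    have hb := hB 0 0 0
    rw [add_zero] at h hb
    have : B 0 0 = 0 := left_eq_add.1 hb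
    rw [this, add_zero] at h
    exact left_eq_add.1 h
  have hBd : ∀ x, B x x = 0 := fun x => by
    have hx2 : x + x = 0 := funext fun i => CharTwo.add_self_eq_zero _
    have h := hQ x x
    rw [hx2, hQ0, h2, zero_add] at h
    exact h.symm
  have hsum : ∀ (s : Finset (Fin d)) (c : Fin d → ZMod 2) (y : Fin d → ZMod 2),
      B (∑ i ∈ s, c i • e i) y = ∑ i ∈ s, c i • B (e i) y := by
    intro s c y
    have h0 : B 0 y = 0 := by
      have := hB 0 0 y
      rw [add_zero] at this
      exact left_eq_add.1 this
    induction s using Finset.induction_on with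
    | empty => simpa using h0
    | insert a t ha ih =>
      rw [Finset.sum_insert ha, Finset.sum_insert ha, hB, ih]
      congr 1
      rcases (show c a = 0 ∨ c a = 1 by generalize c a = u; revert u; decide) with hc | hc <;> simp [hc, h0]
  have hxe : ∀ x : Fin d → ZMod 2, x = ∑ i, x i • e i := fun x => by
    funext k
    simp [e, Finset.sum_apply, Pi.single_apply]
  have hev : ∀ x j, eval x (f j) = ∑ i, ∑ k, M j i k * (x i * x k) := fun x j => by
    simp [f, map_sum]
  have hBxy : ∀ x y j, B x y j = ∑ i, ∑ k, B (e i) (e k) j * (x i * y k) := by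
    intro x y j
    conv_lhs => rw [hxe x, hsum, Finset.sum_apply]
    refine Finset.sum_congr rfl fun i _ => ?_
    rw [Pi.smul_apply, hsymm (e i) y]
    conv_lhs => rw [hxe y, hsum, Finset.sum_apply, smul_eq_mul, Finset.mul_sum]
    refine Finset.sum_congr rfl fun k _ => ?_
    rw [Pi.smul_apply, smul_eq_mul, hsymm (e k) (e i)]
    ring
  have hpol : ∀ x y j, eval (x + y) (f j) = eval x (f j) + eval y (f j) + B x y j := by
    intro x y j
    have hM : ∀ i k, M j i k + M j k i = B (e i) (e k) j := by
      intro i k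
      rcases lt_trichotomy i k with h | h | h
      · simp [M, h, h.not_gt, h.ne']
      · subst h
        simp [M, hBd, CharTwo.add_self_eq_zero]
      · simp [M, h, h.not_gt, h.ne', hsymm (e i) (e k)]
    have hswap : ∑ i, ∑ k, M j i k * (y i * x k) = ∑ i, ∑ k, M j k i * (x i * y k) := by
      rw [Finset.sum_comm]
      exact Finset.sum_congr rfl fun i _ => Finset.sum_congr rfl fun k _ => by ring
    rw [hev, hev, hev, hBxy]
    simp only [Pi.add_apply, add_mul, mul_add, Finset.sum_add_distrib, hswap]
    simp only [← hM, add_mul, Finset.sum_add_distrib]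
    abel
  have hev0 : ∀ j, eval (0 : Fin d → ZMod 2) (f j) = 0 := fun j => by
    rw [hev]; simp
  have hbasis : ∀ i j, eval (e i) (f j) = Q (e i) j := by
    intro i j
    rw [hev, Finset.sum_eq_single i (fun a _ ha => by simp [e, ha]) (by simp),
      Finset.sum_eq_single i (fun a _ ha => by simp [e, ha]) (by simp)]
    simp [M, e]
  have heq : ∀ x j, eval x (f j) = Q x j := by
    intro x j
    have key : ∀ s : Finset (Fin d), eval (∑ i ∈ s, x i • e i) (f j) = Q (∑ i ∈ s, x i • e i) j := by
      intro s
      induction s using Finset.induction_on with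
      | empty => rw [Finset.sum_empty, hev0, hQ0]; rfl
      | insert a t ha ih =>
        rw [Finset.sum_insert ha, hpol, hQ, Pi.add_apply, Pi.add_apply, ih]
        congr 2
        rcases (show x a = 0 ∨ x a = 1 by generalize x a = u; revert u; decide) with hc | hc
        · rw [hc, zero_smul, hev0, hQ0]; rfl
        · rw [hc, one_smul, hbasis]
    rw [hxe x]
    exact key _
  have hdeg : ∀ j, (f j).totalDegree ≤ 2 := by
    intro j
    refine (totalDegree_finset_sum _ _).trans (Finset.sup_le fun i _ => ?_)
    refine (totalDegree_finset_sum _ _).trans (Finset.sup_le fun k _ => ?_)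
    refine (totalDegree_mul _ _).trans ?_
    rw [totalDegree_C, zero_add]
    refine (totalDegree_mul _ _).trans ?_
    rw [totalDegree_X, totalDegree_X]
  haveI : Fact (Nat.Prime 2) := ⟨Nat.prime_two⟩
  have hlt' : ∑ j, (f j).totalDegree < Fintype.card (Fin d) := by
    refine lt_of_le_of_lt (Finset.sum_le_card_nsmul _ _ 2 fun j _ => hdeg j) ?_
    simp
    omega
  have hdvd := char_dvd_card_solutions_of_fintype_sum_lt 2 hlt'
  have : Fintype.card {x : Fin d → ZMod 2 // ∀ j, eval x (f j) = 0} = 1 := by
    rw [Fintype.card_eq_one_iff]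
    refine ⟨⟨0, fun j => by rw [heq, hQ0]; rfl⟩, fun x => Subtype.ext (hdef x.1 (funext fun j => ?_))⟩
    rw [← heq, x.2 j]
    rfl
  rw [← Nat.card_eq_fintype_card] at this
  have h2 : 2 ∣ Nat.card {x : Fin d → ZMod 2 // ∀ j, eval x (f j) = 0} := by
    rw [Nat.card_eq_fintype_card]; convert hdvd
  rw [this] at h2
  norm_num at h2

/-- A group acting freely on a finite set divides its cardinality. -/
theorem free_dvd {G X : Type*} [Group G] [MulAction G X] [Finite X] [Finite G]
    (h : ∀ (g : G) (x : X), g • x = x → g = 1) : Nat.card G ∣ Nat.card X := by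
  classical
  letI := Fintype.ofFinite (Quotient (MulAction.orbitRel G X))
  rw [Nat.card_congr (MulAction.selfEquivSigmaOrbitsQuotientStabilizer' G X Quotient.out_eq'), Nat.card_sigma]
  refine Finset.dvd_sum fun ω _ => dvd_of_eq ?_
  rw [(Subgroup.eq_bot_iff_forall (MulAction.stabilizer G (Quotient.out ω))).2 fun g hg => h g _ hg]
  exact (Nat.card_congr (QuotientGroup.quotientBot (G := G)).toEquiv).symm

/-- A finite elementary abelian 2-group has coordinates. -/
theorem coords {A : Type*} [CommGroup A] [Finite A] (h : ∀ a : A, a * a = 1) {d : ℕ}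
    (hd : Nat.card A = 2 ^ d) :
    ∃ φ : A ≃ (Fin d → ZMod 2), ∀ a b, φ (a * b) = φ a + φ b := by
  letI : Module (ZMod 2) (Additive A) := AddCommGroup.zmodModule fun a => by
    rw [two_nsmul]; exact congrArg Additive.ofMul (h a.toMul)
  haveI : Fact (Nat.Prime 2) := ⟨Nat.prime_two⟩
  haveI : Module.Finite (ZMod 2) (Additive A) := Module.Finite.of_finite
  have hr : Module.finrank (ZMod 2) (Additive A) = d := by
    have h1 := Module.natCard_eq_pow_finrank (K := ZMod 2) (V := Additive A)
    rw [Nat.card_congr (Additive.toMul (α := A)), hd, Nat.card_zmod] at h1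
    exact (Nat.pow_right_injective le_rfl h1).symm
  let b := Module.finBasisOfFinrankEq (ZMod 2) (Additive A) hr
  exact ⟨Additive.ofMul.trans b.equivFun.toEquiv, fun a b' => map_add b.equivFun (Additive.ofMul a) (Additive.ofMul b')⟩

open Squares in
/-- Higman: the structure of a Suzuki 2-group. -/
theorem structure_thm {P : Type*} [Group P] [Finite P] {K : Subgroup (MulAut P)} (hK : Regular K) :
    (∀ x : P, x * x ∈ Subgroup.center P) ∧ (∀ x y : P, x⁻¹ * y⁻¹ * x * y ∈ Subgroup.center P) ∧
      (Nat.card P = Nat.card (Subgroup.center P) ^ 2 ∨ Nat.card P = Nat.card (Subgroup.center P) ^ 3) ∧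
      Monoid.exponent P = 4 := by
  classical
  haveI : Fact (Nat.Prime 2) := ⟨Nat.prime_two⟩
  have hsq := sq_mem_center hK
  have hcomm : ∀ x y : P, x⁻¹ * y⁻¹ * x * y ∈ Subgroup.center P := fun x y => by
    rw [show x⁻¹ * y⁻¹ * x * y =
      (x⁻¹ * x⁻¹) * ((x * y⁻¹) * (x * y⁻¹)) * (y * y) by group]
    exact mul_mem (mul_mem (hsq _) (hsq _)) (hsq _)
  refine ⟨hsq, hcomm, ?_, ?_⟩
  · let A := P ⧸ Subgroup.center P
    letI : CommGroup A :=
      { (inferInstance : Group A) with
        mul_comm := fun a b => by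
          obtain ⟨a, rfl⟩ := QuotientGroup.mk_surjective a
          obtain ⟨b, rfl⟩ := QuotientGroup.mk_surjective b
          rw [← QuotientGroup.mk_mul, ← QuotientGroup.mk_mul, QuotientGroup.eq]
          convert hcomm b a using 1
          group }
    have hA2 : ∀ a : A, a * a = 1 := fun a => by
      obtain ⟨a, rfl⟩ := QuotientGroup.mk_surjective a
      exact (QuotientGroup.eq_one_iff _).2 (hsq a)
    obtain ⟨n, hn2, hn⟩ := exists_pow_center hK
    obtain ⟨d, hd⟩ := IsPGroup.iff_card.1 ((hK.pgroup).to_quotient (Subgroup.center P))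
    obtain ⟨φ, hφ⟩ := coords hA2 hd
    letI : CommGroup (Subgroup.center P) :=
      { (inferInstance : Group (Subgroup.center P)) with
        mul_comm := fun a b => Subtype.ext (Subgroup.mem_center_iff.1 b.2 a) }
    obtain ⟨ψ, hψ⟩ := coords (A := Subgroup.center P) (fun z => Subtype.ext (center_sq hK z.2)) hn
    have hφ1 : φ 1 = 0 := by
      have := hφ 1 1
      rw [mul_one] at this
      exact left_eq_add.1 this
    have hψ1 : ψ 1 = 0 := by
      have := hψ 1 1
      rw [mul_one] at this
      exact left_eq_add.1 this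
    let sq : P → Fin n → ZMod 2 := fun a => ψ ⟨a * a, hsq a⟩
    have hcm : ∀ a b : P, ⁅b, a⁆ ∈ Subgroup.center P := fun a b => by
      have := hcomm b⁻¹ a⁻¹
      rwa [inv_inv, inv_inv] at this
    have hmul : ∀ a b, sq (a * b) = sq a + sq b + ψ ⟨⁅b, a⁆, hcm a b⟩ := fun a b => by
      show ψ _ = ψ _ + ψ _ + ψ _
      rw [← hψ, ← hψ]
      congr 1
      apply Subtype.ext
      show a * b * (a * b) = a * a * (b * b) * ⁅b, a⁆
      calc a * b * (a * b) = a * ⁅b, a⁆ * (a * b * b) := by simp only [commutatorElement_def]; group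
        _ = _ := by
          rw [mul_assoc a, ← Subgroup.mem_center_iff.1 (hcm a b)]; group
    let rep : (Fin d → ZMod 2) → P := fun x => (φ.symm x).out
    have hrep : ∀ x, ((rep x : P) : A) = φ.symm x := fun x => QuotientGroup.out_eq' _
    have hsame : ∀ a b : P, (a : A) = b → sq a = sq b := by
      intro a b h
      have hz := QuotientGroup.eq.1 h
      rw [show b = a * (a⁻¹ * b) by group, hmul]
      have e1 : sq (a⁻¹ * b) = 0 := by
        show ψ _ = 0
        rw [← hψ1]; congr 1; exact Subtype.ext (center_sq hK hz)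
      have e2 : ψ ⟨⁅a⁻¹ * b, a⁆, hcm _ _⟩ = 0 := by
        rw [← hψ1]; congr 1
        exact Subtype.ext (commutatorElement_eq_one_iff_mul_comm.2 (Subgroup.mem_center_iff.1 hz a).symm)
      rw [e1, e2, add_zero, add_zero]
    let Q : (Fin d → ZMod 2) → (Fin n → ZMod 2) := fun x => sq (rep x)
    let B : (Fin d → ZMod 2) → (Fin d → ZMod 2) → (Fin n → ZMod 2) := fun x y =>
      ψ ⟨⁅rep y, rep x⁆, hcm _ _⟩
    have hQ : ∀ x y, Q (x + y) = Q x + Q y + B x y := fun x y => by
      show sq _ = sq _ + sq _ + _
      rw [← hmul]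
      refine hsame _ _ ?_
      rw [hrep, QuotientGroup.mk_mul, hrep, hrep]
      apply φ.injective
      rw [hφ, φ.apply_symm_apply, φ.apply_symm_apply, φ.apply_symm_apply]
    have hsymm : ∀ x y, B x y = B y x := fun x y => by
      have h1 := hQ x y
      have h2 := hQ y x
      rw [add_comm y x, h1, add_comm (Q y) (Q x)] at h2
      exact add_left_cancel h2
    have hB : ∀ x x' y, B (x + x') y = B x y + B x' y := fun x x' y => by
      show ψ _ = ψ _ + ψ _
      rw [← hψ]
      congr 1
      apply Subtype.ext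
      show ⁅rep y, rep (x + x')⁆ = ⁅rep y, rep x⁆ * ⁅rep y, rep x'⁆
      have h1 : ((rep (x + x') : P) : A) = ((rep x * rep x' : P) : A) := by
        rw [hrep, QuotientGroup.mk_mul, hrep, hrep]
        apply φ.injective
        rw [hφ, φ.apply_symm_apply, φ.apply_symm_apply, φ.apply_symm_apply]
      set z := (rep x * rep x')⁻¹ * rep (x + x') with hz'
      have hz : z ∈ Subgroup.center P := QuotientGroup.eq.1 h1.symm
      have hzc := Subgroup.mem_center_iff.1 hz
      have hc1 := Subgroup.mem_center_iff.1 (hcm (rep x') (rep y))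
      rw [show rep (x + x') = rep x * rep x' * z by rw [hz']; group]
      calc ⁅rep y, rep x * rep x' * z⁆
          = rep y * rep x * rep x' * (z * (rep y)⁻¹) * z⁻¹ * (rep x')⁻¹ * (rep x)⁻¹ := by
            simp only [commutatorElement_def]; group
        _ = ⁅rep y, rep x⁆ * (rep x * ⁅rep y, rep x'⁆ * (rep x)⁻¹) := by
            rw [← hzc (rep y)⁻¹]; simp only [commutatorElement_def]; group
        _ = _ := by rw [hc1 (rep x)]; group
    have hdef : ∀ x, Q x = 0 → x = 0 := fun x hx => by
      have h1 : rep x * rep x = 1 := congrArg Subtype.val (ψ.injective (hx.trans hψ1.symm))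
      have h2 : ((rep x : P) : A) = 1 := (QuotientGroup.eq_one_iff _).2 (mem_center_of_sq hK h1)
      rw [hrep] at h2
      rw [← hφ1, ← h2, φ.apply_symm_apply]
    have hb := bound Q B hQ hB hsymm hdef
    -- the quotient is a free module
    letI act : MulAction K {a : A // a ≠ 1} :=
      { smul := fun k a => ⟨Basic.quotAut P (k : MulAut P) a.1,
          fun h => a.2 ((Basic.quotAut P (k : MulAut P)).injective (h.trans (map_one _).symm))⟩
        one_smul := fun a => Subtype.ext (by
          show Basic.quotAut P (1 : MulAut P) a.1 = a.1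
          rw [map_one]; rfl)
        mul_smul := fun k l a => Subtype.ext (by
          show Basic.quotAut P ((k : MulAut P) * (l : MulAut P)) a.1 = _
          rw [map_mul]; rfl) }
    have hfree : Nat.card K ∣ Nat.card {a : A // a ≠ 1} := free_dvd fun k a h => by
      obtain ⟨⟨g, hg⟩⟩ := Nonempty.intro (Subtype.mk _ (QuotientGroup.out_eq' a.1) : {g : P // (g : A) = a.1})
      have h1 : ((k : MulAut P) g : A) = (g : A) := by
        have : Basic.quotAut P (k : MulAut P) a.1 = a.1 := congrArg Subtype.val h
        rw [← hg] at this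
        exact this
      refine Subtype.ext (coset_free hK (H := Subgroup.center P) (fun k _ z hz => Basic.apply_center k hz) k.2
        (fun hgc => a.2 (hg ▸ (QuotientGroup.eq_one_iff _).2 hgc)) (QuotientGroup.eq.1 h1.symm))
    have hcardA : Nat.card {a : A // a ≠ 1} = 2 ^ d - 1 := by
      letI := Fintype.ofFinite A
      rw [← hd, Nat.card_eq_fintype_card, Nat.card_eq_fintype_card, Fintype.card_subtype_compl,
        Fintype.card_subtype_eq]
    have hK1 : Nat.card K = 2 ^ n - 1 := by have := card_K hK; omega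
    rw [hK1, hcardA] at hfree
    have hnd : n ∣ d := by
      have h1 := Nat.pow_sub_one_gcd_pow_sub_one 2 n d
      rw [Nat.gcd_eq_left hfree] at h1
      have : 1 ≤ 2 ^ n := Nat.one_le_two_pow
      have : 1 ≤ 2 ^ Nat.gcd n d := Nat.one_le_two_pow
      exact Nat.gcd_eq_left_iff_dvd.1 (Nat.pow_right_injective le_rfl (show 2 ^ Nat.gcd n d = 2 ^ n by omega))
    have hcard : Nat.card P = 2 ^ (d + n) := by
      rw [Subgroup.card_eq_card_quotient_mul_card_subgroup (Subgroup.center P), hd, hn, pow_add]
    have hd0 : d ≠ 0 := by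
      intro h
      obtain ⟨u, v, huv⟩ := hK.noncomm
      refine huv (Subgroup.mem_center_iff.1 ((QuotientGroup.eq_one_iff _).1 ?_) u)
      exact φ.injective (funext fun i => absurd i.2 (by omega))
    obtain ⟨m, rfl⟩ := hnd
    have hm2 : m ≤ 2 := Nat.le_of_mul_le_mul_left (by linarith) (by omega : 0 < n)
    have hm0 : m ≠ 0 := fun h => hd0 (by rw [h, mul_zero])
    rw [hcard, hn, ← pow_mul, ← pow_mul]
    obtain rfl | rfl : m = 1 ∨ m = 2 := by omega
    · exact Or.inl (by ring_nf)
    · exact Or.inr (by ring_nf)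
  · have hexp : Monoid.exponent P ∣ 2 ^ 2 := Monoid.exponent_dvd_of_forall_pow_eq_one fun x => by
      rw [pow_succ, pow_mul, pow_one, sq, sq]
      exact center_sq hK (hsq x)
    obtain ⟨i, hi, he⟩ := (Nat.dvd_prime_pow Nat.prime_two).1 hexp
    obtain ⟨u, v, huv⟩ := hK.noncomm
    interval_cases i
    · exfalso
      have := Monoid.pow_exponent_eq_one u
      rw [he, pow_zero, pow_one] at this
      exact huv (by simp [this])
    · exfalso
      have := Monoid.pow_exponent_eq_one u
      rw [he, pow_one, sq] at this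
      exact huv (Subgroup.mem_center_iff.1 (mem_center_of_sq hK this) v).symm
    · rw [he]; norm_num

end Cfsg.Agent.Lib.Suzuki2.Anisotropic
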