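import Cfsg.Agent.Lib.Suzuki2.Semilinear
import Cfsg.Agent.Lib.Suzuki2.FieldModel

/-!
# Squares are central in a Suzuki 2-group (Higman)
-/

namespace Cfsg.Agent.Lib.Suzuki2.Squares

open Cfsg.Agent.Lib.Suzuki2.Basic
open scoped commutatorElement

universe u

/-- The hypotheses: `K` is commutative, regular on the involutions, and there are at least two. -/
structure Regular {P : Type*} [Group P] (K : Subgroup (MulAut P)) : Prop where
  tr : TransInvol K
  reg : ∀ k ∈ K, ∀ x : P, x ≠ 1 → x * x = 1 → k x = x → k = 1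
  pgroup : IsPGroup 2 P
  noncomm : ∃ x y : P, x * y ≠ y * x
  two : ∃ x y : P, x ≠ y ∧ x ≠ 1 ∧ x * x = 1 ∧ y ≠ 1 ∧ y * y = 1

variable {P : Type u} [Group P] [Finite P] {K : Subgroup (MulAut P)} (hK : Regular K)
include hK

theorem fpf {k : MulAut P} (hk : k ∈ K) {x : P} (hx : x ≠ 1) (h : k x = x) : k = 1 := by
  obtain ⟨j, hj1, hj⟩ := exists_involution_pow hK.pgroup hx
  exact hK.reg k hk _ hj1 hj (by rw [map_pow, h])

theorem center_sq {z : P} (hz : z ∈ Subgroup.center P) : z * z = 1 :=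
  center_sq_eq_one hK.pgroup hK.tr hK.noncomm hz

theorem mem_center_of_sq {x : P} (hx : x * x = 1) : x ∈ Subgroup.center P :=
  involution_central hK.pgroup hK.tr hx

theorem card_K : Nat.card K + 1 = Nat.card (Subgroup.center P) := by
  classical
  obtain ⟨x, y, -, hx1, hx, -, -⟩ := hK.two
  let f : K → {z : Subgroup.center P // z ≠ 1} := fun k =>
    ⟨⟨(k : MulAut P) x, apply_center _ (mem_center_of_sq hK hx)⟩, fun h => hx1 (by
      have := congrArg Subtype.val h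
      exact (k : MulAut P).injective (this.trans (map_one _).symm))⟩
  have hf : Function.Bijective f := by
    constructor
    · intro k l h
      have e : (k : MulAut P) x = (l : MulAut P) x := congrArg (fun z => z.1.1) h
      have := hK.reg _ (K.mul_mem (K.inv_mem l.2) k.2) x hx1 hx (by
        rw [MulAut.mul_apply, e]; exact (l : MulAut P).symm_apply_apply x)
      exact Subtype.ext (inv_mul_eq_one.1 this).symm
    · rintro ⟨⟨z, hz⟩, hz1⟩
      obtain ⟨k, hk, hkz⟩ := hK.tr.trans x z hx1 hx (fun h => hz1 (Subtype.ext h)) (center_sq hK hz)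
      exact ⟨⟨k, hk⟩, Subtype.ext (Subtype.ext hkz)⟩
  letI := Fintype.ofFinite (Subgroup.center P)
  rw [Nat.card_congr (Equiv.ofBijective f hf), Nat.card_eq_fintype_card, Nat.card_eq_fintype_card,
    Fintype.card_subtype_compl, Fintype.card_subtype_eq]
  have : 0 < Fintype.card (Subgroup.center P) := Fintype.card_pos
  omega

theorem exists_pow_center : ∃ n : ℕ, 2 ≤ n ∧ Nat.card (Subgroup.center P) = 2 ^ n := by
  classical
  haveI : Fact (Nat.Prime 2) := ⟨Nat.prime_two⟩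
  obtain ⟨n, hn⟩ := IsPGroup.iff_card.1 (hK.pgroup.to_subgroup (Subgroup.center P))
  refine ⟨n, ?_, hn⟩
  obtain ⟨x, y, hxy, hx1, hx, hy1, hy⟩ := hK.two
  let i : Fin 3 → Subgroup.center P :=
    ![1, ⟨x, mem_center_of_sq hK hx⟩, ⟨y, mem_center_of_sq hK hy⟩]
  have hi : Function.Injective i := by
    intro a b
    fin_cases a <;> fin_cases b <;> simp [i, Subtype.ext_iff, hxy, hx1, hy1, Ne.symm hxy, Ne.symm hx1, Ne.symm hy1]
  have := Nat.card_le_card_of_injective i hi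
  rw [hn, Nat.card_fin] at this
  by_contra h
  interval_cases n <;> simp at this

theorem one_lt_card_K : 1 < Nat.card K := by
  obtain ⟨n, hn, hc⟩ := exists_pow_center hK
  have := card_K hK
  have : (2 : ℕ) ^ 2 ≤ 2 ^ n := Nat.pow_le_pow_right (by norm_num) hn
  omega

theorem odd_card_K : Odd (Nat.card K) := by
  obtain ⟨n, hn, hc⟩ := exists_pow_center hK
  have := card_K hK
  have : Even (Nat.card (Subgroup.center P)) := by rw [hc]; exact (Nat.even_pow).2 ⟨even_two, by omega⟩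
  rw [← card_K hK, Nat.even_add_one, Nat.not_even_iff_odd] at this
  exact this

theorem coset_free {H : Subgroup P} (hH : ∀ k ∈ K, ∀ x ∈ H, k x ∈ H) {k : MulAut P} (hk : k ∈ K)
    {g : P} (hg : g ∉ H) (h : g⁻¹ * k g ∈ H) : k = 1 := by
  by_contra hne
  have hodd : Odd (orderOf k) := (odd_card_K hK).of_dvd_nat (Subgroup.orderOf_dvd_natCard K hk)
  obtain ⟨p, hp, hdvd⟩ := Nat.exists_prime_and_dvd (n := orderOf k) (by simpa using hne)
  haveI := Fact.mk hp
  set L := Subgroup.zpowers (k ^ (orderOf k / p)) with hL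
  let X := {x : P // g⁻¹ * x ∈ H}
  have hmem : ∀ l ∈ Subgroup.zpowers k, ∀ x : P, g⁻¹ * x ∈ H → g⁻¹ * l x ∈ H := by
    intro l hl
    have hstep : ∀ m : ℕ, ∀ x : P, g⁻¹ * x ∈ H → g⁻¹ * (k ^ m) x ∈ H := by
      intro m
      induction m with
      | zero => intro x hx; simpa using hx
      | succ m ih =>
        intro x hx
        rw [pow_succ', MulAut.mul_apply]
        have h1 := hH k hk _ (ih x hx)
        rw [map_mul, map_inv] at h1
        have := H.mul_mem h h1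
        rwa [mul_assoc, mul_inv_cancel_left] at this
    obtain ⟨m, hm⟩ := (mem_powers_iff_mem_zpowers (G := MulAut P) (x := k)).2 hl
    subst hm
    exact hstep m
  letI act : MulAction L X :=
    { smul := fun l x => ⟨(l : MulAut P) x, hmem _ (Subgroup.zpowers_le.2 (Subgroup.npow_mem_zpowers k _) l.2) _ x.2⟩
      one_smul := fun x => Subtype.ext rfl
      mul_smul := fun _ _ _ => Subtype.ext rfl }
  have hord : orderOf (k ^ (orderOf k / p)) = p := by
    rw [orderOf_pow_orderOf_div (orderOf_pos k).ne' hdvd]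
  have hLp : IsPGroup p L := IsPGroup.of_card (n := 1) (by rw [hL, Nat.card_zpowers, hord, pow_one])
  have hfix : IsEmpty (MulAction.fixedPoints L X) := by
    refine ⟨fun ⟨x, hx⟩ => ?_⟩
    have h1 : (k ^ (orderOf k / p)) x.1 = x.1 := congrArg Subtype.val (hx ⟨_, Subgroup.mem_zpowers _⟩)
    have hx1 : (x.1 : P) ≠ 1 := fun e => hg (by simpa [e] using x.2)
    have := fpf hK (K.pow_mem hk _) hx1 h1
    exact hp.one_lt.ne' (by rw [← hord, this, orderOf_one])
  have hmod := hLp.card_modEq_card_fixedPoints X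
  rw [Nat.card_of_isEmpty (α := MulAction.fixedPoints L X), Nat.modEq_zero_iff_dvd,
    Nat.card_congr ((Equiv.mulLeft g⁻¹).subtypeEquiv (p := fun x => g⁻¹ * x ∈ H) (q := fun x => x ∈ H)
      fun _ => Iff.rfl)] at hmod
  haveI : Fact (Nat.Prime 2) := ⟨Nat.prime_two⟩
  obtain ⟨e, he⟩ := IsPGroup.iff_card.1 (hK.pgroup.to_subgroup H)
  rw [show Nat.card {x // x ∈ H} = 2 ^ e from he] at hmod
  have h2 : p = 2 := (Nat.prime_dvd_prime_iff_eq hp Nat.prime_two).1 (hp.dvd_of_dvd_pow hmod)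
  subst h2
  exact absurd (even_iff_two_dvd.2 hdvd) (Nat.not_even_iff_odd.2 hodd)

/-- All squares are central. -/
theorem sq_mem_center (a : P) : a * a ∈ Subgroup.center P := by
  classical
  haveI : Fact (Nat.Prime 2) := ⟨Nat.prime_two⟩
  by_contra ha
  have hc : ∀ {z : P}, z ∈ Subgroup.center P → ∀ g, g * z = z * g := fun h g =>
    Subgroup.mem_center_iff.1 h g
  have hcl : ∀ a b c : P, ⁅a * b, c⁆ = a * ⁅b, c⁆ * a⁻¹ * ⁅a, c⁆ := fun a b c => by
    simp only [commutatorElement_def]; group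
  have hcr : ∀ a b c : P, ⁅a, b * c⁆ = ⁅a, b⁆ * (b * ⁅a, c⁆ * b⁻¹) := fun a b c => by
    simp only [commutatorElement_def]; group
  have hcj : ∀ (z : P), z ∈ Subgroup.center P → ∀ g, g * z * g⁻¹ = z := fun z hz g => by
    rw [hc hz g]; group
  have hinvol : ∀ {z : P}, z ∈ Subgroup.center P → z⁻¹ = z := fun hz =>
    inv_eq_of_mul_eq_one_left (center_sq hK hz)
  -- the second centre
  let Y : Subgroup P :=
    (Subgroup.center (P ⧸ Subgroup.center P)).comap (QuotientGroup.mk' (Subgroup.center P))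
  have hY : ∀ {x}, x ∈ Y ↔ ∀ g, ⁅x, g⁆ ∈ Subgroup.center P := fun {x} =>
    Subgroup.mem_comap.trans mk_mem_center_iff
  have hY' : ∀ {x}, x ∈ Y → ∀ g, ⁅g, x⁆ ∈ Subgroup.center P := fun {x} hx g => by
    rw [← commutatorElement_inv]; exact Subgroup.inv_mem _ (hY.1 hx g)
  have hZY : ∀ z ∈ Subgroup.center P, z ∈ Y := fun z hz => hY.2 fun g => by
    rw [commutatorElement_def, ← hc hz g]; simp
  have hYsq : ∀ x ∈ Y, x * x ∈ Subgroup.center P := fun x hx => Subgroup.mem_center_iff.2 fun g => by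
    have h1 : ⁅x * x, g⁆ = 1 := by rw [comm_elem_mul_left (hY.1 hx g), center_sq hK (hY.1 hx g)]
    exact (commutatorElement_eq_one_iff_mul_comm.1 h1).symm
  have haY : a ∉ Y := fun h => ha (hYsq a h)
  have hYsqc : ∀ y ∈ Y, ∀ g : P, Commute y (g * g) := fun y hy g => by
    refine commutatorElement_eq_one_iff_mul_comm.1 ?_
    rw [hcr, hcj _ (hY.1 hy g) g, center_sq hK (hY.1 hy g)]
  have hcsq : ∀ u v : P, ⁅u, v⁆ = u * u * ((u⁻¹ * v) * (u⁻¹ * v)) * (v⁻¹ * v⁻¹) := fun u v => by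
    simp only [commutatorElement_def]; group
  have hYcomm : ∀ y ∈ Y, ∀ u v : P, Commute y ⁅u, v⁆ := fun y hy u v => by
    rw [hcsq]
    exact ((hYsqc y hy u).mul_right (hYsqc y hy _)).mul_right (hYsqc y hy _)
  haveI hYn : Y.Normal := Subgroup.Normal.comap inferInstance _
  have hconj : ∀ y ∈ Y, ∀ g, g * y * g⁻¹ ∈ Y := fun y hy g => hYn.conj_mem y hy g
  -- the third centre
  haveI : Nontrivial (P ⧸ Y) := ⟨⟨(a : P ⧸ Y), 1, fun h => haY ((QuotientGroup.eq_one_iff _).1 h)⟩⟩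
  haveI := (hK.pgroup.to_quotient Y).center_nontrivial
  let R : Subgroup P := (Subgroup.center (P ⧸ Y)).comap (QuotientGroup.mk' Y)
  have hR : ∀ {x}, x ∈ R ↔ ∀ g, ⁅x, g⁆ ∈ Y := by
    intro x
    constructor
    · intro hx g
      rw [← QuotientGroup.eq_one_iff, ← QuotientGroup.mk'_apply, map_commutatorElement,
        commutatorElement_eq_one_iff_mul_comm]
      exact (Subgroup.mem_center_iff.1 hx _).symm
    · intro hx
      rw [Subgroup.mem_comap, Subgroup.mem_center_iff]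
      intro g
      obtain ⟨g, rfl⟩ := QuotientGroup.mk_surjective g
      have := (QuotientGroup.eq_one_iff _).2 (hx g)
      rw [← QuotientGroup.mk'_apply, map_commutatorElement, commutatorElement_eq_one_iff_mul_comm] at this
      exact this.symm
  have hYR : ∀ y ∈ Y, y ∈ R := fun y hy => hR.2 fun g => hZY _ (hY.1 hy g)
  obtain ⟨x₀, hx₀R, hx₀Y⟩ : ∃ x ∈ R, x ∉ Y := by
    obtain ⟨⟨q, hq⟩, hq1⟩ := exists_ne (1 : Subgroup.center (P ⧸ Y))
    obtain ⟨x, rfl⟩ := QuotientGroup.mk_surjective q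
    exact ⟨x, hq, fun h => hq1 (Subtype.ext ((QuotientGroup.eq_one_iff _).2 h))⟩
  obtain ⟨g₀, hg₀⟩ : ∃ g, ⁅x₀, g⁆ ∉ Subgroup.center P := by
    by_contra h
    push Not at h
    exact hx₀Y (hY.2 h)
  set u₀ := ⁅x₀, g₀⁆ with hu₀
  have hu₀Y : u₀ ∈ Y := hR.1 hx₀R g₀
  -- the second centre is commutative and squaring maps it onto the centre
  have hkY : ∀ (k : MulAut P), ∀ y ∈ Y, k y ∈ Y := fun k y hy => hY.2 fun g => by
    have := apply_center k (hY.1 hy (k⁻¹ g))
    rwa [map_commutatorElement, show k (k⁻¹ g) = g from k.apply_symm_apply g] at this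
  have hkR : ∀ (k : MulAut P), ∀ x ∈ R, k x ∈ R := fun k x hx => hR.2 fun g => by
    have := hkY k _ (hR.1 hx (k⁻¹ g))
    rwa [map_commutatorElement, show k (k⁻¹ g) = g from k.apply_symm_apply g] at this
  have hu₀sq : u₀ * u₀ ≠ 1 := fun h => hg₀ (mem_center_of_sq hK h)
  have hroot : ∀ z ∈ Subgroup.center P, ∃ y ∈ Y, (∀ y' ∈ Y, Commute y y') ∧ y * y = z := by
    intro z hz
    by_cases hz1 : z = 1
    · exact ⟨1, Y.one_mem, fun y' _ => Commute.one_left y', by simp [hz1]⟩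
    obtain ⟨k, -, hk⟩ := hK.tr.trans _ z hu₀sq (center_sq hK (hYsq _ hu₀Y)) hz1 (center_sq hK hz)
    refine ⟨k u₀, hkY k _ hu₀Y, fun y' hy' => ?_, by rw [← map_mul, hk]⟩
    rw [hu₀, map_commutatorElement]
    exact (hYcomm y' hy' _ _).symm
  have hYab : ∀ y ∈ Y, ∀ y' ∈ Y, Commute y y' := by
    intro y hy y' hy'
    obtain ⟨u, hu, huc, huy⟩ := hroot _ (hYsq y hy)
    have h1 : y * u⁻¹ * (y * u⁻¹) = 1 := by
      rw [show y * u⁻¹ * (y * u⁻¹) = y * (u⁻¹ * y) * u⁻¹ by group,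
        (huc y hy).inv_left.eq, show y * (y * u⁻¹) * u⁻¹ = y * y * (u * u)⁻¹ by group, huy, mul_inv_cancel]
    have h2 : Commute (y * u⁻¹) y' := (hc (mem_center_of_sq hK h1) y').symm
    have h3 := h2.mul_left (huc y' hy')
    rwa [inv_mul_cancel_right] at h3
  -- the centraliser of Y is commutative
  let C := Subgroup.centralizer (Y : Set P)
  have hCmem : ∀ {g}, g ∈ C ↔ ∀ y ∈ Y, y * g = g * y := fun {g} => Subgroup.mem_centralizer_iff
  have hYC : ∀ y ∈ Y, y ∈ C := fun y hy => hCmem.2 fun y' hy' => hYab y' hy' y hy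
  have hsqC : ∀ g : P, g * g ∈ C := fun g => hCmem.2 fun y hy => hYsqc y hy g
  have hkC : ∀ (k : MulAut P), ∀ g ∈ C, k g ∈ C := fun k g hg => hCmem.2 fun y hy => by
    have h1 := congrArg k (hCmem.1 hg _ (hkY k⁻¹ y hy))
    rwa [map_mul, map_mul, show k (k⁻¹ y) = y from k.apply_symm_apply y] at h1
  have hCab : ∀ g ∈ C, ∀ g' ∈ C, Commute g g' := by
    let resC : MulAut P → MulAut C := fun k =>
      { toFun := fun z => ⟨k z, hkC k _ z.2⟩
        invFun := fun z => ⟨k⁻¹ z, hkC k⁻¹ _ z.2⟩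
        left_inv := fun z => Subtype.ext (k.symm_apply_apply z)
        right_inv := fun z => Subtype.ext (k.apply_symm_apply z)
        map_mul' := fun z z' => Subtype.ext (map_mul k z.1 z'.1) }
    let resH : MulAut P →* MulAut C :=
      { toFun := resC
        map_one' := by ext; rfl
        map_mul' := fun _ _ => by ext; rfl }
    have htr : TransInvol (K.map resH) := by
      refine ⟨?_, fun x y hx1 hx hy1 hy => ?_⟩
      · rintro _ ⟨k, hk, rfl⟩ _ ⟨l, hl, rfl⟩
        rw [← map_mul, hK.tr.comm k hk l hl, map_mul]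
      · obtain ⟨k, hk, hkxy⟩ := hK.tr.trans x.1 y.1 (fun h => hx1 (Subtype.ext h))
          (congrArg Subtype.val hx) (fun h => hy1 (Subtype.ext h)) (congrArg Subtype.val hy)
        exact ⟨resH k, Subgroup.mem_map_of_mem _ hk, Subtype.ext hkxy⟩
    intro g hg g' hg'
    have h := higman (P := C) (hK.pgroup.to_subgroup C) htr (z := ⟨u₀, hYC _ hu₀Y⟩)
      (Subgroup.mem_center_iff.2 fun c => Subtype.ext (hCmem.1 c.2 u₀ hu₀Y).symm)
      (fun h => hu₀sq (congrArg Subtype.val h)) ⟨g, hg⟩ ⟨g', hg'⟩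
    exact congrArg Subtype.val h
  -- the field
  obtain ⟨n, hn2, hn⟩ := exists_pow_center hK
  have hn0 : n ≠ 0 := by omega
  obtain ⟨i₀, -, -, hi₀1, hi₀, -, -⟩ := hK.two
  have hi₀c := mem_center_of_sq hK hi₀
  let res : MulAut P → MulAut (Subgroup.center P) := fun k =>
    { toFun := fun z => ⟨k z, apply_center k z.2⟩
      invFun := fun z => ⟨k⁻¹ z, apply_center k⁻¹ z.2⟩
      left_inv := fun z => Subtype.ext (k.symm_apply_apply z)
      right_inv := fun z => Subtype.ext (k.apply_symm_apply z)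
      map_mul' := fun z z' => Subtype.ext (map_mul k z.1 z'.1) }
  let resZ : MulAut P →* MulAut (Subgroup.center P) :=
    { toFun := res
      map_one' := by ext; rfl
      map_mul' := fun _ _ => by ext; rfl }
  obtain ⟨ι₀, hιb, hιm, hι1, hιi, hιk⟩ := FieldModel.field_model hn0 hn
    (fun z => Subtype.ext (center_sq hK z.2)) (K.map resZ)
    (by rintro _ ⟨k, hk, rfl⟩ _ ⟨l, hl, rfl⟩; rw [← map_mul, hK.tr.comm k hk l hl, map_mul])
    (fun x y hx hy => by
      obtain ⟨k, hk, hkxy⟩ := hK.tr.trans x.1 y.1 (fun h => hx (Subtype.ext h)) (center_sq hK x.2)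
        (fun h => hy (Subtype.ext h)) (center_sq hK y.2)
      exact ⟨resZ k, Subgroup.mem_map_of_mem _ hk, Subtype.ext hkxy⟩)
    (a₀ := (⟨i₀, hi₀c⟩ : Subgroup.center P)) (fun h => hi₀1 (congrArg Subtype.val h))
  let F := GaloisField 2 n
  letI : Fintype F := Fintype.ofFinite F
  let ι : P → F := fun x => if h : x ∈ Subgroup.center P then ι₀ ⟨x, h⟩ else 0
  have hι : ∀ (x : P) (h : x ∈ Subgroup.center P), ι x = ι₀ ⟨x, h⟩ := fun x h => dif_pos h
  have ι_mul : ∀ x y, x ∈ Subgroup.center P → y ∈ Subgroup.center P → ι (x * y) = ι x + ι y := by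
    intro x y hx hy
    rw [hι _ (Subgroup.mul_mem _ hx hy), hι _ hx, hι _ hy]
    exact hιm ⟨x, hx⟩ ⟨y, hy⟩
  have ι_one : ι 1 = 0 := by rw [hι _ (Subgroup.one_mem _)]; exact hι1
  have ι_i₀ : ι i₀ = 1 := by rw [hι _ hi₀c]; exact hιi
  have ι_inj : ∀ x y, x ∈ Subgroup.center P → y ∈ Subgroup.center P → ι x = ι y → x = y := by
    intro x y hx hy h
    rw [hι _ hx, hι _ hy] at h
    exact congrArg Subtype.val (hιb.1 h)
  have ι_surj : ∀ t, ∃ z ∈ Subgroup.center P, ι z = t := fun t => by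
    obtain ⟨⟨z, hz⟩, rfl⟩ := hιb.2 t
    exact ⟨z, hz, hι z hz⟩
  have ι_k : ∀ k ∈ K, ∀ z ∈ Subgroup.center P, ι (k z) = ι (k i₀) * ι z := by
    intro k hk z hz
    rw [hι _ (apply_center k hz), hι _ (apply_center k hi₀c), hι _ hz]
    exact hιk _ (Subgroup.mem_map_of_mem resZ hk) ⟨z, hz⟩
  have lam_ne : ∀ k : MulAut P, ι (k i₀) ≠ 0 := fun k h => hi₀1 (by
    have := ι_inj _ _ (apply_center k hi₀c) (Subgroup.one_mem _) (h.trans ι_one.symm)
    exact k.injective (this.trans (map_one k).symm))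
  -- squares on Y
  let ρ : P → F := fun y => ι (y * y)
  have ρ_mul : ∀ y ∈ Y, ∀ y' ∈ Y, ρ (y * y') = ρ y + ρ y' := fun y hy y' hy' => by
    show ι _ = ι _ + ι _
    rw [← ι_mul _ _ (hYsq y hy) (hYsq y' hy'), (hYab y hy y' hy').mul_mul_mul_comm]
  have ρ_center : ∀ z ∈ Subgroup.center P, ρ z = 0 := fun z hz => by
    show ι (z * z) = 0
    rw [center_sq hK hz, ι_one]
  have ρ_zero : ∀ y ∈ Y, ρ y = 0 → y ∈ Subgroup.center P := fun y hy h =>
    mem_center_of_sq hK (ι_inj _ _ (hYsq y hy) (Subgroup.one_mem _) (h.trans ι_one.symm))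
  have ρ_conj : ∀ y ∈ Y, ∀ g, ρ (g * y * g⁻¹) = ρ y := fun y hy g => by
    show ι _ = ι _
    rw [show g * y * g⁻¹ * (g * y * g⁻¹) = g * (y * y) * g⁻¹ by group, hcj _ (hYsq y hy)]
  have hrt : ∀ t : F, ∃ y ∈ Y, ρ y = t := fun t => by
    obtain ⟨z, hz, rfl⟩ := ι_surj t
    obtain ⟨y, hy, -, rfl⟩ := hroot z hz
    exact ⟨y, hy, rfl⟩
  choose r hrY hrρ using hrt
  have cmul : ∀ g : P, ∀ y ∈ Y, ∀ y' ∈ Y, ι ⁅g, y * y'⁆ = ι ⁅g, y⁆ + ι ⁅g, y'⁆ := fun g y hy y' hy' => by
    rw [hcr, hcj _ (hY' hy' g), ι_mul _ _ (hY' hy g) (hY' hy' g)]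
  have cwd : ∀ g : P, ∀ y ∈ Y, ∀ y' ∈ Y, ρ y = ρ y' → ι ⁅g, y⁆ = ι ⁅g, y'⁆ := by
    intro g y hy y' hy' h
    have hz : y * y' ∈ Subgroup.center P := ρ_zero _ (Y.mul_mem hy hy') (by
      rw [ρ_mul y hy y' hy', h, CharTwo.add_self_eq_zero])
    have h1 := cmul g y hy y' hy'
    rw [show ⁅g, y * y'⁆ = 1 from commutatorElement_eq_one_iff_mul_comm.2 (hc hz g), ι_one] at h1
    exact (CharTwo.add_eq_zero).1 h1.symm
  let b : P → (F →+ F) := fun g => AddMonoidHom.mk' (fun t => ι ⁅g, r t⁆) fun s t => by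
    rw [← cmul g _ (hrY s) _ (hrY t)]
    exact cwd g _ (hrY _) _ (Y.mul_mem (hrY s) (hrY t)) (by rw [hrρ, ρ_mul _ (hrY s) _ (hrY t), hrρ, hrρ])
  have b_spec : ∀ g : P, ∀ y ∈ Y, b g (ρ y) = ι ⁅g, y⁆ := fun g y hy => cwd g _ (hrY _) y hy (hrρ _)
  have b_mul : ∀ g h : P, b (g * h) = b g + b h := fun g h => AddMonoidHom.ext fun t => by
    show ι ⁅g * h, r t⁆ = ι ⁅g, r t⁆ + ι ⁅h, r t⁆
    rw [comm_elem_mul_left (hY' (hrY t) h), ι_mul _ _ (hY' (hrY t) g) (hY' (hrY t) h)]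
  have b_zero : ∀ g : P, b g = 0 ↔ g ∈ C := by
    intro g
    constructor
    · intro h
      refine hCmem.2 fun y hy => ?_
      have h1 := DFunLike.congr_fun h (ρ y)
      rw [b_spec g y hy] at h1
      exact (commutatorElement_eq_one_iff_mul_comm.1
        (ι_inj _ _ (hY' hy g) (Subgroup.one_mem _) (h1.trans ι_one.symm))).symm
    · intro h
      refine AddMonoidHom.ext fun t => ?_
      show ι ⁅g, r t⁆ = 0
      rw [commutatorElement_eq_one_iff_mul_comm.2 (hCmem.1 h _ (hrY t)).symm, ι_one]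
  have b_equiv : ∀ k ∈ K, ∀ g t, b (k g) (ι (k i₀) * t) = ι (k i₀) * b g t := by
    intro k hk g t
    have h1 : ρ (k (r t)) = ι (k i₀) * t := by
      show ι (k (r t) * k (r t)) = _
      rw [← map_mul, ι_k k hk _ (hYsq _ (hrY t))]
      exact congrArg (ι (k i₀) * ·) (hrρ t)
    rw [← h1, b_spec _ _ (hkY k _ (hrY t)), ← map_commutatorElement, ι_k k hk _ (hY' (hrY t) g)]
    rfl
  have b_inv : ∀ g h : P, b g = b h → g⁻¹ * h ∈ C := fun g h e => by
    rw [← b_zero]
    have := b_mul g (g⁻¹ * h)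
    rw [mul_inv_cancel_left, e] at this
    simpa using this
  -- an equivariant family below any invariant subgroup not centralising Y
  have mkFam : ∀ R₀ : Subgroup P, (∀ k ∈ K, ∀ g ∈ R₀, k g ∈ R₀) → (∃ g ∈ R₀, b g ≠ 0) →
      ∃ S : Semilinear.Family P K F, S.b = b ∧ S.V ≤ R₀ ∧ S.act = fun (k : K) g => (k : MulAut P) g := by
    intro R₀ hinv hne
    let Good : Subgroup P → Prop := fun W =>
      W ≤ R₀ ∧ (∀ k ∈ K, ∀ g ∈ W, k g ∈ W) ∧ ∃ g ∈ W, b g ≠ 0
    obtain ⟨V, ⟨hVR, hVinv, hVne⟩, hVmin⟩ := (measure fun W : Subgroup P => Nat.card W).wf.has_min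
      {W | Good W} ⟨R₀, le_rfl, hinv, hne⟩
    refine ⟨{ act := fun k g => (k : MulAut P) g
              lam := fun k => ι ((k : MulAut P) i₀)
              b := b
              V := V
              b_mul := b_mul
              lam_ne := fun k => lam_ne _
              lam_surj := fun t ht => ?_
              equiv := fun k g z => b_equiv _ k.2 g z
              V_inv := fun k g hg => hVinv _ k.2 g hg
              V_min := fun W hWV hWinv _ => ?_
              free := fun k g _ hg e => ?_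
              ne_zero := hVne
              three := ?_ }, rfl, hVR, rfl⟩
    · obtain ⟨z, hz, rfl⟩ := ι_surj t
      obtain ⟨k, hk, hkz⟩ := hK.tr.trans i₀ z hi₀1 hi₀ (fun h => ht (by rw [h, ι_one])) (center_sq hK hz)
      exact ⟨⟨k, hk⟩, congrArg ι hkz⟩
    · by_cases h : ∀ g ∈ W, b g = 0
      · exact Or.inl h
      push Not at h
      refine Or.inr (Subgroup.eq_of_le_of_card_ge hWV (not_lt.1 ?_))
      exact hVmin W ⟨hWV.trans hVR, fun k hk g hg => hWinv ⟨k, hk⟩ g hg, h⟩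
    · have : (k : MulAut P) = 1 := coset_free hK (fun l _ x hx => hkC l x hx) k.2
        (fun h => hg ((b_zero g).2 h)) (b_inv g _ e.symm)
      rw [this, MulAut.one_apply, ι_i₀]
    · have h1 : 2 < Fintype.card F := by
        rw [← Nat.card_eq_fintype_card, GaloisField.card 2 n hn0]
        calc 2 < 2 ^ 2 := by norm_num
          _ ≤ 2 ^ n := Nat.pow_le_pow_right (by norm_num) hn2
      obtain ⟨t, ht, ht'⟩ := Finset.exists_mem_notMem_of_card_lt_card
        (s := ({0, 1} : Finset F)) (t := Finset.univ) (lt_of_le_of_lt Finset.card_le_two h1)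
      simp only [Finset.mem_insert, Finset.mem_singleton, not_or] at ht'
      exact ⟨t, ht'⟩
  -- first case: C meets the third centre in more than Y
  have hcase : ∀ x ∈ R, x ∈ C → x ∈ Y := by
    intro x hxR hxC
    by_contra hxY
    have hx2 : x * x ∈ Y := by
      refine hY.2 fun g => ?_
      have hy := hYC _ (hR.1 hxR g)
      rw [hcl, ((hCab x hxC _ hy)).eq, mul_inv_cancel_right]
      exact hYsq _ (hR.1 hxR g)
    set s := ρ (x * x) with hs
    have hCne : ∃ g ∈ (⊤ : Subgroup P), b g ≠ 0 := by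
      by_contra h
      push Not at h
      obtain ⟨u, v, huv⟩ := hK.noncomm
      exact huv (hCab u ((b_zero u).1 (h u trivial)) v ((b_zero v).1 (h v trivial)))
    obtain ⟨S, hSb, -, -⟩ := mkFam ⊤ (fun k _ g _ => trivial) hCne
    have hrel : ∀ g : P, b g s = ρ ⁅x, g⁆ ∧ b g (ρ ⁅x, g⁆) = ρ ⁅x, g⁆ := by
      intro g
      set y := ⁅x, g⁆ with hy
      have hyY : y ∈ Y := hR.1 hxR g
      have hxy : Commute x y := hCab x hxC y (hYC _ hyY)
      constructor
      · rw [hs, b_spec g _ hx2]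
        show _ = ι (y * y)
        have e : ⁅x * x, g⁆ = y * y := by rw [hcl, hxy.eq, mul_inv_cancel_right]
        rw [← commutatorElement_inv, e, hinvol (hYsq y hyY)]
      · rw [b_spec g _ hyY]
        show _ = ι (y * y)
        have e : ⁅x, g * g⁆ = 1 := commutatorElement_eq_one_iff_mul_comm.2 (hCab x hxC _ (hsqC g))
        rw [hcr, ← hy, show y * (g * y * g⁻¹) = y * (⁅g, y⁆ * y) by
          simp only [commutatorElement_def]; group, ← mul_assoc, hc (hY' hyY g) y, mul_assoc] at e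
        have h2 := ι_mul _ _ (hY' hyY g) (hYsq y hyY)
        rw [e, ι_one] at h2
        exact (CharTwo.add_eq_zero).1 h2.symm
    by_cases hs0 : s = 0
    · have hxx : x * x ∈ Subgroup.center P := ρ_zero _ hx2 hs0
      obtain ⟨u, hu, -, hux⟩ := hroot _ hxx
      have h1 : x * u⁻¹ * (x * u⁻¹) = 1 := by
        rw [(Commute.mul_mul_mul_comm (hCab _ (inv_mem (hYC u hu)) x hxC) x u⁻¹), ← mul_inv_rev, hux,
          mul_inv_cancel]
      have := Y.mul_mem (hZY _ (mem_center_of_sq hK h1)) hu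
      rw [inv_mul_cancel_right] at this
      exact hxY this
    obtain ⟨g, hg, g', hg', hb, hb', hne⟩ := S.exists_two
    rw [hSb] at hb hb' hne
    have hfix : ∀ g ∈ S.V, b g ≠ 0 → b g s = s := by
      intro g hgV hb
      by_contra hns
      obtain ⟨h1, h2⟩ := hrel g
      have h3 : S.b g (s + ρ ⁅x, g⁆) = 0 := by
        rw [hSb, map_add, h1, h2, CharTwo.add_self_eq_zero]
      have h4 := S.eq_zero hgV (fun h => hns (h1.trans (CharTwo.add_eq_zero.1 h).symm)) h3
      rw [hSb] at h4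
      exact hb h4
    have := S.fixing_unique hg hg' hs0 (by rw [hSb]; exact hfix g hg hb) (by rw [hSb]; exact hfix g' hg' hb')
    rw [hSb] at this
    exact hne this
  -- second case
  have hRne : ∃ g ∈ R, b g ≠ 0 := ⟨x₀, hx₀R, fun h => hx₀Y (hcase x₀ hx₀R ((b_zero _).1 h))⟩
  obtain ⟨S, hSb, hSR, hSact⟩ := mkFam R (fun k _ g hg => hkR k g hg) hRne
  have hVY : ∀ v ∈ S.V, b v = 0 → v ∈ Y := fun v hv h => hcase v (hSR hv) ((b_zero v).1 h)
  have hsqV : ∀ v ∈ S.V, v * v ∈ Subgroup.center P := by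
    intro v hv
    by_cases hb : b v = 0
    · exact hYsq v (hVY v hv hb)
    have hv2 : v * v ∈ Y := hY.2 fun g => by
      have hy := hR.1 (hSR hv) g
      rw [hcl, show v * ⁅v, g⁆ * v⁻¹ = ⁅v, ⁅v, g⁆⁆ * ⁅v, g⁆ by simp only [commutatorElement_def]; group,
        mul_assoc]
      exact Subgroup.mul_mem _ (hY' hy v) (hYsq _ hy)
    by_contra hvc
    have h1 : S.b v (ρ (v * v)) = 0 := by
      rw [hSb, b_spec v _ hv2, show ⁅v, v * v⁆ = 1 by simp only [commutatorElement_def]; group, ι_one]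
    have h2 := S.eq_zero hv (fun h => hvc (ρ_zero _ hv2 h)) h1
    rw [hSb] at h2
    exact hb h2
  have hfixL : ∀ v ∈ S.V, ∀ h : P, S.b v (ρ ⁅v, h⁆) = ρ ⁅v, h⁆ := by
    intro v hv h
    set y := ⁅v, h⁆ with hy
    have hyY : y ∈ Y := hR.1 (hSR hv) h
    have e : ⁅v * v, h⁆ = 1 := commutatorElement_eq_one_iff_mul_comm.2 (hc (hsqV v hv) h).symm
    rw [hcl, ← hy, show v * y * v⁻¹ * y = ⁅v, y⁆ * (y * y) by simp only [commutatorElement_def]; group] at e
    have h2 := ι_mul _ _ (hY' hyY v) (hYsq y hyY)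
    rw [e, ι_one] at h2
    rw [hSb, b_spec v y hyY]
    exact (CharTwo.add_eq_zero).1 h2.symm
  have hLadd : ∀ v ∈ S.V, ∀ v' ∈ S.V, ∀ h : P, ρ ⁅v * v', h⁆ = ρ ⁅v, h⁆ + ρ ⁅v', h⁆ := by
    intro v hv v' hv' h
    have h1 := hR.1 (hSR hv') h
    rw [hcl, ρ_mul _ (hconj _ h1 v) _ (hR.1 (hSR hv) h), ρ_conj _ h1, add_comm]
  have hLzero : ∀ v ∈ S.V, b v = 0 → ∀ h : P, ρ ⁅v, h⁆ = 0 := fun v hv hb h =>
    ρ_center _ (hY.1 (hVY v hv hb) h)
  have hLinj : ∀ h : P, (∃ v ∈ S.V, ρ ⁅v, h⁆ ≠ 0) → ∀ w ∈ S.V, b w ≠ 0 → ρ ⁅w, h⁆ ≠ 0 := by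
    rintro h ⟨v, hv, hvne⟩ w hw hbw hw0
    have e : ρ ⁅v * w, h⁆ = ρ ⁅v, h⁆ := by rw [hLadd v hv w hw, hw0, add_zero]
    have h1 := hfixL v hv h
    have h2 := hfixL _ (S.V.mul_mem hv hw) h
    rw [e] at h2
    have h3 := S.fixing_unique hv (S.V.mul_mem hv hw) hvne h1 h2
    rw [hSb, b_mul] at h3
    exact hbw (by simpa using h3)
  let N : Subgroup P :=
    { carrier := {h | ∀ v ∈ S.V, ρ ⁅v, h⁆ = 0}
      one_mem' := fun v _ => by rw [commutatorElement_one_right]; exact ρ_center _ (Subgroup.one_mem _)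
      mul_mem' := fun {g h} hg hh v hv => by
        have h1 := hR.1 (hSR hv) h
        rw [hcr, ρ_mul _ (hR.1 (hSR hv) g) _ (hconj _ h1 g), ρ_conj _ h1, hg v hv, hh v hv, add_zero]
      inv_mem' := fun {g} hg v hv => by
        have h1 := hR.1 (hSR hv) g⁻¹
        have e := hcr v g g⁻¹
        rw [mul_inv_cancel, commutatorElement_one_right] at e
        have h2 := congrArg ρ e
        rw [ρ_center _ (Subgroup.one_mem _), ρ_mul _ (hR.1 (hSR hv) g) _ (hconj _ h1 g), ρ_conj _ h1,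
          hg v hv, zero_add] at h2
        exact h2.symm }
  have hN2 : ∀ g h, g ∉ N → h ∉ N → g * h ∈ N := by
    intro g h hg hh v hv
    have h1 := hR.1 (hSR hv) h
    rw [hcr, ρ_mul _ (hR.1 (hSR hv) g) _ (hconj _ h1 g), ρ_conj _ h1]
    by_cases hb : b v = 0
    · rw [hLzero v hv hb g, hLzero v hv hb h, add_zero]
    have a1 := hLinj g (by by_contra c; push Not at c; exact hg c) v hv hb
    have a2 := hLinj h (by by_contra c; push Not at c; exact hh c) v hv hb
    rw [S.fixed_unique hv a1 a2 (hfixL v hv g) (hfixL v hv h), CharTwo.add_self_eq_zero]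
  obtain ⟨v₁, hv₁, -, -, hb₁, -, -⟩ := S.exists_two
  rw [hSb] at hb₁
  obtain ⟨h₁, hh₁⟩ : ∃ h, h ∉ N := by
    by_contra hall
    push Not at hall
    exact hb₁ ((b_zero v₁).2 (hYC _ (hY.2 fun g => ρ_zero _ (hR.1 (hSR hv₁) g) (hall g v₁ hv₁))))
  have hNinv : ∀ k ∈ K, ∀ h ∈ N, k h ∈ N := by
    intro k hk h hh v hv
    have hv' : k⁻¹ v ∈ S.V := by
      have := S.V_inv ⟨k⁻¹, K.inv_mem hk⟩ v hv
      rw [hSact] at this
      exact this
    have e : ⁅v, k h⁆ = k ⁅k⁻¹ v, h⁆ := by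
      rw [map_commutatorElement, show k (k⁻¹ v) = v from k.apply_symm_apply v]
    show ι _ = 0
    rw [e, ← map_mul, ι_k k hk _ (hYsq _ (hR.1 (hSR hv') h))]
    exact mul_eq_zero_of_right _ (hh _ hv')
  obtain ⟨k, hk, hk1⟩ : ∃ k ∈ K, k ≠ 1 := by
    by_contra h
    push Not at h
    exact (one_lt_card_K hK).ne' (by
      rw [Subgroup.card_eq_one, Subgroup.eq_bot_iff_forall]; exact h)
  refine hk1 (coset_free hK hNinv hk hh₁ (hN2 _ _ (fun h => hh₁ (N.inv_mem_iff.1 h)) fun h => hh₁ ?_))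
  have := hNinv k⁻¹ (K.inv_mem hk) _ h
  rwa [show k⁻¹ (k h₁) = h₁ from k.symm_apply_apply h₁] at this

end Cfsg.Agent.Lib.Suzuki2.Squares
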