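import Cfsg.Agent.Lib.Suzuki2.FieldModel
import Cfsg.Agent.Lib.RankOne.AutSpan
import Cfsg.Prelude.Def_LieRecognition

/-!
# Suzuki 2-groups of order `|Z|²` are of type A
-/

namespace Cfsg.Agent.Lib.Suzuki2.TypeA

open Cfsg.Agent.Lib.Suzuki2.Basic
open scoped commutatorElement

section Matrices

variable {F : Type*} [Field F] [CharP F 2] (φ : F →+* F)

theorem mul3 (x y x' y' : F) :
    (!![1, 0, 0; x, 1, 0; y, φ x, 1] : Matrix (Fin 3) (Fin 3) F) *
        !![1, 0, 0; x', 1, 0; y', φ x', 1] =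
      !![1, 0, 0; x + x', 1, 0; y + y' + φ x * x', φ (x + x'), 1] := by
  rw [Matrix.mul_fin_three, map_add]
  ext i j
  fin_cases i <;> fin_cases j <;> simp <;> ring

theorem one3 : (!![1, 0, 0; 0, 1, 0; 0, φ 0, 1] : Matrix (Fin 3) (Fin 3) F) = 1 := by
  rw [Matrix.one_fin_three]; simp

/-- The element `(x, y)` of the group of type A. -/
def mkA (x y : F) : GL (Fin 3) F where
  val := !![1, 0, 0; x, 1, 0; y, φ x, 1]
  inv := !![1, 0, 0; x, 1, 0; y + φ x * x, φ x, 1]
  val_inv := by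
    rw [mul3, CharTwo.add_self_eq_zero, ← add_assoc, CharTwo.add_self_eq_zero, zero_add,
      CharTwo.add_self_eq_zero]
    exact one3 φ
  inv_val := by
    rw [mul3, CharTwo.add_self_eq_zero, add_right_comm y, CharTwo.add_self_eq_zero, zero_add,
      CharTwo.add_self_eq_zero]
    exact one3 φ

theorem mkA_mul (x y x' y' : F) : mkA φ x y * mkA φ x' y' = mkA φ (x + x') (y + y' + φ x * x') :=
  Units.ext (mul3 φ x y x' y')

theorem mkA_zero : mkA φ 0 0 = 1 := Units.ext (one3 φ)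

theorem mkA_inj {x y x' y' : F} (h : mkA φ x y = mkA φ x' y') : x = x' ∧ y = y' := by
  have h1 := congrArg (fun g : GL (Fin 3) F => (g : Matrix (Fin 3) (Fin 3) F) 1 0) h
  have h2 := congrArg (fun g : GL (Fin 3) F => (g : Matrix (Fin 3) (Fin 3) F) 2 0) h
  simp [mkA] at h1 h2
  exact ⟨h1, h2⟩

theorem mem_typeA_iff {g : GL (Fin 3) F} :
    g ∈ Cfsg.suzukiTypeA F φ ↔ ∃ x y, g = mkA φ x y := by
  constructor
  · intro h
    refine Subgroup.closure_induction (p := fun g _ => ∃ x y, g = mkA φ x y) ?_ ?_ ?_ ?_ h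
    · rintro g ⟨x, y, hg⟩; exact ⟨x, y, Units.ext hg⟩
    · exact ⟨0, 0, (mkA_zero φ).symm⟩
    · rintro g g' - - ⟨x, y, rfl⟩ ⟨x', y', rfl⟩; exact ⟨_, _, mkA_mul φ x y x' y'⟩
    · rintro g - ⟨x, y, rfl⟩
      exact ⟨x, y + φ x * x, Units.ext rfl⟩
  · rintro ⟨x, y, rfl⟩
    exact Subgroup.subset_closure ⟨x, y, rfl⟩

end Matrices

variable {P : Type*} [Group P] [Finite P]

/-- The algebraic data underlying recognition of type A. -/
structure SquareData (P : Type*) [Group P] (F : Type*) [Field F] (φ : F →+* F) where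
  /-- coordinate on `P / Z(P)` -/
  κ : P → F
  /-- coordinate on `Z(P)` -/
  ι : P → F
  κ_mul : ∀ a b, κ (a * b) = κ a + κ b
  κ_eq_zero : ∀ a, κ a = 0 ↔ a ∈ Subgroup.center P
  κ_surj : Function.Surjective κ
  ι_mul : ∀ a b, a ∈ Subgroup.center P → b ∈ Subgroup.center P → ι (a * b) = ι a + ι b
  ι_inj : ∀ a b, a ∈ Subgroup.center P → b ∈ Subgroup.center P → ι a = ι b → a = b
  ι_surj : ∀ u, ∃ a ∈ Subgroup.center P, ι a = u
  sq_mem : ∀ a, a * a ∈ Subgroup.center P
  ι_sq : ∀ a, ι (a * a) = φ (κ a) * κ a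

theorem iso_of_squareData {F : Type*} [Field F] [Finite F] [CharP F 2] {φ : F →+* F}
    (D : SquareData P F φ) : Nonempty (P ≃* Cfsg.suzukiTypeA F φ) := by
  classical
  have h2 : ∀ u : F, u + u = 0 := CharTwo.add_self_eq_zero
  let m : F → F → (↥(Cfsg.suzukiTypeA F φ)) := fun x y => ⟨mkA φ x y, (mem_typeA_iff φ).2 ⟨x, y, rfl⟩⟩
  have hm : ∀ g : (↥(Cfsg.suzukiTypeA F φ)), ∃ x y, g = m x y := fun g => by
    obtain ⟨x, y, h⟩ := (mem_typeA_iff φ).1 g.2
    exact ⟨x, y, Subtype.ext h⟩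
  have m_mul : ∀ x y x' y', m x y * m x' y' = m (x + x') (y + y' + φ x * x') :=
    fun x y x' y' => Subtype.ext (mkA_mul φ x y x' y')
  have m_one : m 0 0 = 1 := Subtype.ext (mkA_zero φ)
  have m_inj : ∀ {x y x' y'}, m x y = m x' y' → x = x' ∧ y = y' :=
    fun h => mkA_inj φ (congrArg Subtype.val h)
  have ι1 : D.ι 1 = 0 := by
    have := D.ι_mul 1 1 (Subgroup.one_mem _) (Subgroup.one_mem _)
    simpa using this
  -- the diagonal central subgroup
  let Δ : Subgroup (P × (↥(Cfsg.suzukiTypeA F φ))) :=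
    { carrier := {h | h.1 ∈ Subgroup.center P ∧ h.2 = m 0 (D.ι h.1)}
      one_mem' := ⟨Subgroup.one_mem _, by simp only [Prod.fst_one, Prod.snd_one, ι1, m_one]⟩
      mul_mem' := by
        rintro ⟨a, g⟩ ⟨b, g'⟩ ⟨ha, hg⟩ ⟨hb, hg'⟩
        refine ⟨Subgroup.mul_mem _ ha hb, ?_⟩
        simp only at hg hg' ⊢
        rw [Prod.snd_mul, Prod.fst_mul, hg, hg', m_mul, D.ι_mul a b ha hb]
        simp
      inv_mem' := by
        rintro ⟨a, g⟩ ⟨ha, hg⟩
        refine ⟨Subgroup.inv_mem _ ha, ?_⟩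
        simp only at hg ⊢
        show g⁻¹ = m 0 (D.ι a⁻¹)
        rw [inv_eq_iff_mul_eq_one, hg, m_mul, ← D.ι_mul a a⁻¹ ha (Subgroup.inv_mem _ ha)]
        simp [ι1, m_one] }
  have hΔc : ∀ d ∈ Δ, ∀ h : P × (↥(Cfsg.suzukiTypeA F φ)), h * d = d * h := by
    rintro ⟨z, g⟩ ⟨hz, hg⟩ ⟨a, k⟩
    obtain ⟨x, y, rfl⟩ := hm k
    simp only at hg
    subst hg
    refine Prod.ext (Subgroup.mem_center_iff.1 hz a) ?_
    show m x y * m 0 (D.ι z) = m 0 (D.ι z) * m x y
    rw [m_mul, m_mul]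
    simp [add_comm]
  -- compatible pairs
  let R : Subgroup (P × (↥(Cfsg.suzukiTypeA F φ))) :=
    { carrier := {h | ∃ y, h.2 = m (D.κ h.1) y}
      one_mem' := ⟨0, by rw [Prod.fst_one, (D.κ_eq_zero 1).2 (Subgroup.one_mem _), m_one]; rfl⟩
      mul_mem' := by
        rintro ⟨a, g⟩ ⟨b, g'⟩ ⟨y, hg⟩ ⟨y', hg'⟩
        simp only at hg hg'
        exact ⟨y + y' + φ (D.κ a) * D.κ b, by rw [Prod.snd_mul, Prod.fst_mul, hg, hg', m_mul, D.κ_mul]⟩
      inv_mem' := by
        rintro ⟨a, g⟩ ⟨y, hg⟩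
        simp only at hg
        refine ⟨y + φ (D.κ a) * D.κ a, ?_⟩
        show g⁻¹ = m (D.κ a⁻¹) _
        have h1 : D.κ a⁻¹ = D.κ a := by
          have := (D.κ_eq_zero (a * a)).2 (D.sq_mem a)
          have h0 : D.κ (a⁻¹ * (a * a)) = D.κ a := by simp
          rw [D.κ_mul, this, add_zero] at h0
          exact h0
        rw [h1, hg, inv_eq_iff_mul_eq_one, m_mul, h2, ← add_assoc, h2, zero_add, h2, m_one] }
  have hsq : ∀ h ∈ R, h * h ∈ Δ := by
    rintro ⟨a, g⟩ ⟨y, hg⟩
    refine ⟨D.sq_mem a, ?_⟩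
    simp only at hg
    rw [Prod.snd_mul, hg, m_mul, h2, h2, zero_add]
    exact congrArg (m 0) (D.ι_sq a).symm
  have hcomm : ∀ h ∈ R, ∀ k ∈ R, ∃ d ∈ Δ, h * k = k * h * d := by
    intro h hh k hk
    refine ⟨(h * h)⁻¹ * (k * k)⁻¹ * ((h * k) * (h * k)), ?_, ?_⟩
    · exact Δ.mul_mem (Δ.mul_mem (Δ.inv_mem (hsq h hh)) (Δ.inv_mem (hsq k hk)))
        (hsq _ (R.mul_mem hh hk))
    · have c2 := hΔc _ (Δ.inv_mem (hsq k hk)) (k * h * (h * h)⁻¹)
      symm
      calc k * h * ((h * h)⁻¹ * (k * k)⁻¹ * ((h * k) * (h * k)))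
          = k * h * (h * h)⁻¹ * (k * k)⁻¹ * ((h * k) * (h * k)) := by group
        _ = h * k := by rw [c2]; group
  letI : Algebra (ZMod 2) F := ZMod.algebra F 2
  haveI : Module.Finite (ZMod 2) F := Module.Finite.of_finite
  let b := Module.finBasis (ZMod 2) F
  choose p hp using fun i => D.κ_surj (b i)
  let g : Fin (Module.finrank (ZMod 2) F) → P × (↥(Cfsg.suzukiTypeA F φ)) := fun i => (p i, m (b i) 0)
  have hgR : ∀ i, g i ∈ R := fun i => ⟨0, by simp only [g, hp]⟩
  have hΔR : Δ ≤ R := by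
    rintro ⟨z, k⟩ ⟨hz, hk⟩
    simp only at hk
    exact ⟨D.ι z, by simp only; rw [(D.κ_eq_zero z).2 hz, hk]⟩
  have main : ∀ J : Finset (Fin (Module.finrank (ZMod 2) F)), ∃ H : Subgroup (P × (↥(Cfsg.suzukiTypeA F φ))),
      Δ ≤ H ∧ H ≤ R ∧ (∀ i ∈ J, g i ∈ H) ∧
        ∀ h ∈ H, D.κ h.1 ∈ Submodule.span (ZMod 2) (b '' (J : Set _)) ∧ (D.κ h.1 = 0 → h ∈ Δ) := by
    intro J
    induction J using Finset.induction_on with
    | empty =>
      refine ⟨Δ, le_rfl, hΔR, by simp, fun h hh => ⟨?_, fun _ => hh⟩⟩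
      rw [(D.κ_eq_zero h.1).2 hh.1]
      exact Submodule.zero_mem _
    | insert i J hi ih =>
      obtain ⟨H, hΔH, hHR, hJ, hH⟩ := ih
      have sw : ∀ a ∈ H, ∃ d ∈ H, a * g i = g i * a * d := fun a ha => by
        obtain ⟨d, hd, e⟩ := hcomm a (hHR ha) (g i) (hgR i)
        exact ⟨d, hΔH hd, e⟩
      have hii : g i * g i ∈ H := hΔH (hsq _ (hgR i))
      let H' : Subgroup (P × (↥(Cfsg.suzukiTypeA F φ))) :=
        { carrier := {h | h ∈ H ∨ h * g i ∈ H}
          one_mem' := Or.inl H.one_mem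
          mul_mem' := by
            intro x y hx hy
            rcases hx with hx | hx <;> rcases hy with hy | hy
            · exact Or.inl (H.mul_mem hx hy)
            · exact Or.inr (by rw [mul_assoc]; exact H.mul_mem hx hy)
            · obtain ⟨d, hd, e⟩ := sw y hy
              refine Or.inr ?_
              rw [show x * y * g i = x * g i * y * d by rw [mul_assoc x, e]; group]
              exact H.mul_mem (H.mul_mem hx hy) hd
            · obtain ⟨d, hd, e⟩ := sw (y * g i) hy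
              refine Or.inl ?_
              rw [show x * y = x * (y * g i * g i) * (g i * g i)⁻¹ by simp [mul_assoc], e,
                show x * (g i * (y * g i) * d) = x * g i * (y * g i) * d by group]
              exact H.mul_mem (H.mul_mem (H.mul_mem hx hy) hd) (H.inv_mem hii)
          inv_mem' := by
            intro x hx
            rcases hx with hx | hx
            · exact Or.inl (H.inv_mem hx)
            · obtain ⟨d, hd, e⟩ := sw _ (H.inv_mem hx)
              refine Or.inr ?_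
              rw [show x⁻¹ * g i = g i * ((x * g i)⁻¹ * g i) by simp [mul_assoc], e,
                show g i * (g i * (x * g i)⁻¹ * d) = g i * g i * ((x * g i)⁻¹ * d) by group]
              exact H.mul_mem hii (H.mul_mem (H.inv_mem hx) hd) }
      refine ⟨H', fun x hx => Or.inl (hΔH hx), ?_, ?_, ?_⟩
      · rintro x (hx | hx)
        · exact hHR hx
        · have := R.mul_mem (hHR hx) (R.inv_mem (hgR i))
          rwa [mul_inv_cancel_right] at this
      · intro j hj
        rcases Finset.mem_insert.1 hj with rfl | hj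
        · exact Or.inr hii
        · exact Or.inl (hJ j hj)
      · intro h hh
        rw [Finset.coe_insert, Set.image_insert_eq]
        rcases hh with hh | hh
        · exact ⟨Submodule.span_mono (Set.subset_insert _ _) (hH h hh).1, (hH h hh).2⟩
        · have h1 := (hH _ hh).1
          rw [Prod.fst_mul, D.κ_mul, show D.κ (g i).1 = b i from hp i] at h1
          refine ⟨?_, fun h0 => ?_⟩
          · have := Submodule.sub_mem _ (Submodule.span_mono (Set.subset_insert (b i) _) h1)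
              (Submodule.subset_span (Set.mem_insert (b i) _))
            simpa using this
          · exfalso
            rw [h0, zero_add] at h1
            exact b.linearIndependent.notMem_span_image (by simpa using hi) h1
  obtain ⟨H, hΔH, hHR, hgH, hH⟩ := main Finset.univ
  have κH : ∀ u : F, ∃ h ∈ H, D.κ h.1 = u := by
    let S : AddSubgroup F :=
      { carrier := {u | ∃ h ∈ H, D.κ h.1 = u}
        zero_mem' := ⟨1, H.one_mem, (D.κ_eq_zero _).2 (Subgroup.one_mem _)⟩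
        add_mem' := by
          rintro _ _ ⟨h, hh, rfl⟩ ⟨k, hk, rfl⟩
          exact ⟨h * k, H.mul_mem hh hk, D.κ_mul _ _⟩
        neg_mem' := by
          rintro _ ⟨h, hh, rfl⟩
          exact ⟨h, hh, (CharTwo.neg_eq _).symm⟩ }
    intro u
    show u ∈ S
    rw [← b.sum_repr u]
    refine S.sum_mem fun i _ => ?_
    obtain h | h : b.repr u i = 0 ∨ b.repr u i = 1 := by
      generalize b.repr u i = c; revert c; decide
    · rw [h, zero_smul]; exact S.zero_mem
    · rw [h, one_smul]; exact ⟨g i, hgH i (Finset.mem_univ i), hp i⟩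
  let f₁ : H →* P := (MonoidHom.fst P (↥(Cfsg.suzukiTypeA F φ))).comp H.subtype
  let f₂ : H →* (↥(Cfsg.suzukiTypeA F φ)) := (MonoidHom.snd P (↥(Cfsg.suzukiTypeA F φ))).comp H.subtype
  have hzero : ∀ h : H, D.κ (f₁ h) = 0 → (h : P × (↥(Cfsg.suzukiTypeA F φ))) ∈ Δ := fun h h0 => (hH h h.2).2 h0
  have bij₁ : Function.Bijective f₁ := by
    refine ⟨(injective_iff_map_eq_one f₁).2 fun h h1 => ?_, fun a => ?_⟩
    · have hd := hzero h (by rw [h1]; exact (D.κ_eq_zero _).2 (Subgroup.one_mem _))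
      have hg2 : (h : P × (↥(Cfsg.suzukiTypeA F φ))).2 = 1 := by rw [hd.2, show (h : P × (↥(Cfsg.suzukiTypeA F φ))).1 = 1 from h1, ι1, m_one]
      exact Subtype.ext (Prod.ext h1 hg2)
    · obtain ⟨⟨c, k⟩, hh, hc⟩ := κH (D.κ a)
      simp only at hc
      have hz : c⁻¹ * a ∈ Subgroup.center P := by
        rw [← D.κ_eq_zero]
        have : D.κ c + D.κ (c⁻¹ * a) = D.κ a := by rw [← D.κ_mul, mul_inv_cancel_left]
        simpa [hc] using this
      refine ⟨⟨(c, k) * (c⁻¹ * a, m 0 (D.ι (c⁻¹ * a))), H.mul_mem hh (hΔH ⟨hz, rfl⟩)⟩, ?_⟩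
      show c * (c⁻¹ * a) = a
      group
  have bij₂ : Function.Bijective f₂ := by
    refine ⟨(injective_iff_map_eq_one f₂).2 fun h h1 => ?_, fun k => ?_⟩
    · obtain ⟨y, hy⟩ := hHR h.2
      have h1' : (h : P × (↥(Cfsg.suzukiTypeA F φ))).2 = 1 := h1
      rw [h1', ← m_one] at hy
      have hd := hzero h (m_inj hy).1.symm
      have h3 := hd.2
      rw [h1', ← m_one] at h3
      exact Subtype.ext (Prod.ext
        (D.ι_inj _ _ hd.1 (Subgroup.one_mem _) ((m_inj h3).2.symm.trans ι1.symm)) h1')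
    · obtain ⟨x, y, rfl⟩ := hm k
      obtain ⟨⟨c, k⟩, hh, hc⟩ := κH x
      obtain ⟨y', hy'⟩ := hHR hh
      simp only at hc hy'
      obtain ⟨z, hz, hzy⟩ := D.ι_surj (y + y')
      refine ⟨⟨(c, k) * (z, m 0 (D.ι z)), H.mul_mem hh (hΔH ⟨hz, rfl⟩)⟩, ?_⟩
      show k * m 0 (D.ι z) = m x y
      rw [hy', hc, m_mul, hzy, mul_zero, add_zero, add_zero, ← add_assoc, add_comm y' y, add_assoc,
        h2, add_zero]
  exact ⟨(MulEquiv.ofBijective f₁ bij₁).symm.trans (MulEquiv.ofBijective f₂ bij₂)⟩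

theorem mul_of_quadratic {F : Type*} [Field F] [Finite F] [CharP F 2] (Q : F → F) (hQ0 : Q 0 = 0)
    (hQ1 : Q 1 = 1) (hmul : ∀ u v, Q (u * v) = Q u * Q v)
    (hquad : ∀ x y z : F, Q (x + y + z) + Q (x + y) + Q (x + z) + Q (y + z) + Q x + Q y + Q z = 0) :
    ∃ σ τ : F ≃+* F, ∀ x, Q x = σ x * τ x := by
  classical
  haveI : Fact (Nat.Prime 2) := ⟨Nat.prime_two⟩
  letI : Fintype F := Fintype.ofFinite F
  letI : Algebra (ZMod 2) F := ZMod.algebra F 2
  haveI : Finite (F ≃+* F) := Finite.of_injective (fun σ => (σ : F → F)) DFunLike.coe_injective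
  letI := Fintype.ofFinite (F ≃+* F)
  obtain ⟨B, hB⟩ := Cfsg.Agent.Lib.RankOne.AutSpan.exists_biadditive Q hquad
  obtain ⟨c, hc⟩ := Cfsg.Agent.Lib.RankOne.AutSpan.exists_coeffs₂ 2 B
  let Qh : F →* F := { toFun := Q, map_one' := hQ1, map_mul' := hmul }
  let f : (F ≃+* F) × (F ≃+* F) → (F →* F) := fun q =>
    { toFun := fun x => q.1 x * q.2 x
      map_one' := by simp
      map_mul' := fun x y => by simp only [map_mul]; ring }
  by_contra hne
  push Not at hne
  refine (linearIndependent_monoidHom F F).notMem_span_image (s := Set.range f) (x := Qh) ?_ ?_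
  · rintro ⟨⟨σ, τ⟩, h⟩
    obtain ⟨x, hx⟩ := hne σ τ
    exact hx (DFunLike.congr_fun h x).symm
  · rw [show (Qh : F → F) = ∑ q, c q • (f q : F → F) by
      funext x
      simp only [Finset.sum_apply, Pi.smul_apply, smul_eq_mul]
      exact (hB x).trans (hc x x)]
    exact Submodule.sum_mem _ fun q _ => Submodule.smul_mem _ _
      (Submodule.subset_span ⟨f q, ⟨q, rfl⟩, rfl⟩)

/-- If `x ↦ x φ(x)` is injective then `φ` has odd order. -/
theorem odd_order_of_injective {F : Type*} [Field F] [Finite F] (φ : F ≃+* F)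
    (hinj : ∀ x, x * φ x = 1 → x = 1) : Odd (orderOf φ) := by
  classical
  haveI : Finite (RingAut F) := Finite.of_injective (fun σ : F ≃+* F => (σ : F → F)) DFunLike.coe_injective
  letI : Fintype F := Fintype.ofFinite F
  rw [← Nat.not_even_iff_odd]
  intro hev
  let H : Subgroup (RingAut F) := Subgroup.zpowers φ
  let H' : Subgroup (RingAut F) := Subgroup.zpowers (φ * φ)
  have fixsame : ∀ y, (φ * φ) y = y → φ y = y := by
    intro y hy
    by_contra hne
    by_cases hy0 : y = 0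
    · exact hne (by rw [hy0, map_zero])
    have hφy : φ y ≠ 0 := by simpa using hy0
    have h1 : y / φ y * φ (y / φ y) = 1 := by
      rw [map_div₀, show φ (φ y) = y from hy]
      field_simp
    exact hne ((div_eq_one_iff_eq hφy).1 (hinj _ h1)).symm
  have hsub : (FixedPoints.subfield H F : Set F) = (FixedPoints.subfield H' F : Set F) := by
    ext y
    constructor
    · intro hy h
      exact hy ⟨h.1, Subgroup.zpowers_le.2 (H.mul_mem (Subgroup.mem_zpowers φ) (Subgroup.mem_zpowers φ)) h.2⟩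
    · intro hy
      have h1 : φ y = y := fixsame y (hy ⟨_, Subgroup.mem_zpowers (φ * φ)⟩)
      intro h
      have : (h : RingAut F) ∈ MulAction.stabilizer (RingAut F) y :=
        Subgroup.zpowers_le.2 (show φ ∈ MulAction.stabilizer (RingAut F) y from h1) h.2
      exact this
  have hcard : ∀ J : Subgroup (RingAut F), Nat.card F =
      Nat.card (FixedPoints.subfield J F : Set F) ^ Nat.card J := fun J => by
    letI := Fintype.ofFinite J
    rw [Nat.card_eq_fintype_card (α := J), ← FixedPoints.finrank_eq_card J F]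
    exact Module.natCard_eq_pow_finrank
  have e1 := hcard H
  have e2 := hcard H'
  rw [hsub, e2, Nat.card_zpowers, Nat.card_zpowers] at e1
  have hone : 2 ≤ Nat.card (FixedPoints.subfield H' F : Set F) := Finite.one_lt_card (α := FixedPoints.subfield H' F)
  have e3 := Nat.pow_right_injective hone e1
  rw [show φ * φ = φ ^ 2 from (sq φ).symm, orderOf_pow, Nat.gcd_eq_right hev.two_dvd] at e3
  have := orderOf_pos φ
  omega

/-- A Suzuki 2-group of order `|Z|²` is of type A. -/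
theorem typeA_of_card_sq (hP : IsPGroup 2 P) (K : Subgroup (MulAut P)) (hK : TransInvol K)
    (hnc : ∃ x y : P, x * y ≠ y * x)
    (hcard : Nat.card P = Nat.card (Subgroup.center P) ^ 2) :
    ∃ (F : Type) (_ : Field F) (_ : Fintype F) (φ : F ≃+* F),
      Fintype.card F = Nat.card (Subgroup.center P) ∧
      φ ≠ RingEquiv.refl F ∧ Odd (orderOf φ) ∧
      Nonempty (P ≃* Cfsg.suzukiTypeA F (φ : F →+* F)) := by
  classical
  haveI : Fact (Nat.Prime 2) := ⟨Nat.prime_two⟩
  let A := P ⧸ Subgroup.center P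
  have hzsq : ∀ z ∈ Subgroup.center P, z * z = 1 := fun z hz => center_sq_eq_one hP hK hnc hz
  obtain ⟨x₁, y₁, hxy⟩ := hnc
  have hx1 : x₁ ∉ Subgroup.center P := fun h => hxy (Subgroup.mem_center_iff.1 h y₁).symm
  haveI : Nontrivial A := ⟨⟨(x₁ : A), 1, fun h => hx1 ((QuotientGroup.eq_one_iff _).1 h)⟩⟩
  have hPA : IsPGroup 2 A := hP.to_quotient _
  haveI := hPA.center_nontrivial
  obtain ⟨⟨u, hu⟩, hu1⟩ := exists_ne (1 : Subgroup.center A)
  obtain ⟨j, hj1, hj⟩ := exists_involution_pow hPA (x := u) fun h => hu1 (Subtype.ext h)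
  obtain ⟨w, hw⟩ := QuotientGroup.mk_surjective (u ^ 2 ^ j)
  rw [← hw] at hj1 hj
  have hwc : (w : A) ∈ Subgroup.center A := hw ▸ Subgroup.pow_mem _ hu (2 ^ j)
  rw [Ne, QuotientGroup.eq_one_iff] at hj1
  rw [← QuotientGroup.mk_mul, QuotientGroup.eq_one_iff] at hj
  set i₀ := w * w with hi₀
  have hi₀1 : i₀ ≠ 1 := fun h => hj1 (involution_central hP hK h)
  have hi₀2 : i₀ * i₀ = 1 := hzsq _ hj
  -- all cosets are translates of that of `w`
  have hsame : ∀ a b : P, (a : A) = (b : A) → a * a = b * b := by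
    intro a b h
    rw [QuotientGroup.eq] at h
    have hz := hzsq _ h
    calc a * a = a * a * (a⁻¹ * b * (a⁻¹ * b)) := by rw [hz, mul_one]
      _ = a * (a * (a⁻¹ * b) * (a⁻¹ * b)) := by group
      _ = a * ((a⁻¹ * b) * a * (a⁻¹ * b)) := by rw [Subgroup.mem_center_iff.1 h a]
      _ = b * b := by group
  choose kk hkk hkk' using fun z : {z : P // z ∈ Subgroup.center P ∧ z ≠ 1} =>
    hK.trans i₀ z.1 hi₀1 hi₀2 z.2.2 (hzsq _ z.2.1)
  have hcardA : Nat.card A = Nat.card (Subgroup.center P) := by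
    have := Subgroup.card_eq_card_quotient_mul_card_subgroup (Subgroup.center P)
    rw [hcard, sq] at this
    exact (Nat.eq_of_mul_eq_mul_right Nat.card_pos this).symm
  let Ψ : {z : P // z ∈ Subgroup.center P ∧ z ≠ 1} → {a : A // a ≠ 1} := fun z =>
    ⟨((kk z w : P) : A), fun h => z.2.2 (by
      rw [QuotientGroup.eq_one_iff] at h
      rw [← hkk' z, hi₀, map_mul]
      exact hzsq _ h)⟩
  have hΨ : Function.Bijective Ψ := by
    have hinj : Function.Injective Ψ := fun z z' h => by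
      apply Subtype.ext
      rw [← hkk' z, ← hkk' z', hi₀, map_mul, map_mul]
      exact hsame _ _ (congrArg Subtype.val h)
    letI := Fintype.ofFinite P
    letI := Fintype.ofFinite A
    refine (Fintype.bijective_iff_injective_and_card Ψ).2 ⟨hinj, ?_⟩
    rw [Fintype.card_subtype_compl, Fintype.card_subtype_eq]
    rw [show Fintype.card {z : P // z ∈ Subgroup.center P ∧ z ≠ 1} =
      Fintype.card {z : Subgroup.center P // z ≠ 1} from Fintype.card_congr
        ⟨fun z => ⟨⟨z.1, z.2.1⟩, fun h => z.2.2 (congrArg Subtype.val h)⟩,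
          fun z => ⟨z.1.1, z.1.2, fun h => z.2 (Subtype.ext h)⟩, fun _ => rfl, fun _ => rfl⟩,
      Fintype.card_subtype_compl, Fintype.card_subtype_eq, ← Nat.card_eq_fintype_card,
      ← Nat.card_eq_fintype_card, hcardA]
  have cover : ∀ a : A, a ≠ 1 → ∃ k ∈ K, quotAut P k (w : A) = a := fun a ha => by
    obtain ⟨z, hz⟩ := hΨ.2 ⟨a, ha⟩
    exact ⟨kk z, hkk z, congrArg Subtype.val hz⟩
  have hAc : ∀ a : A, a ∈ Subgroup.center A ∧ a * a = 1 := by
    intro a
    by_cases ha : a = 1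
    · simp [ha]
    · obtain ⟨k, hk, rfl⟩ := cover a ha
      refine ⟨?_, by rw [← map_mul, ← QuotientGroup.mk_mul, (QuotientGroup.eq_one_iff _).2 hj, map_one]⟩
      rw [Subgroup.mem_center_iff]
      intro b
      rw [← (quotAut P k).apply_symm_apply b, ← map_mul, Subgroup.mem_center_iff.1 hwc, map_mul]
  have h2A : ∀ a : A, a * a = 1 := fun a => (hAc a).2
  have hsqmem : ∀ a : P, a * a ∈ Subgroup.center P := fun a => by
    rw [← QuotientGroup.eq_one_iff, QuotientGroup.mk_mul]; exact h2A _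
  obtain ⟨n, hn⟩ := IsPGroup.iff_card.1 (hP.to_subgroup (Subgroup.center P))
  have hn0 : n ≠ 0 := fun h => by
    rw [h, pow_zero] at hn
    rw [hn] at hcardA
    exact absurd hcardA (Finite.one_lt_card (α := A)).ne'
  have htransA : ∀ a b : A, a ≠ 1 → b ≠ 1 → ∃ k ∈ K.map (quotAut P), k a = b := by
    intro a b ha hb
    obtain ⟨k, hk, rfl⟩ := cover a ha
    obtain ⟨l, hl, rfl⟩ := cover b hb
    refine ⟨quotAut P (l * k⁻¹), Subgroup.mem_map_of_mem _ (K.mul_mem hl (K.inv_mem hk)), ?_⟩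
    rw [← MulAut.mul_apply, ← map_mul, inv_mul_cancel_right]
  obtain ⟨κ₀, hκb, hκm, hκ1, hκw, hκk⟩ := FieldModel.field_model hn0 (hcardA.trans hn) h2A
    (K.map (quotAut P))
    (by rintro _ ⟨k, hk, rfl⟩ _ ⟨l, hl, rfl⟩; rw [← map_mul, hK.comm k hk l hl, map_mul])
    htransA (a₀ := (w : A)) (fun h => hj1 ((QuotientGroup.eq_one_iff _).1 h))
  -- the centre
  let res : MulAut P → MulAut (Subgroup.center P) := fun k =>
    { toFun := fun z => ⟨k z, apply_center k z.2⟩
      invFun := fun z => ⟨k⁻¹ z, apply_center k⁻¹ z.2⟩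
      left_inv := fun z => Subtype.ext (k.symm_apply_apply z)
      right_inv := fun z => Subtype.ext (k.apply_symm_apply z)
      map_mul' := fun z z' => Subtype.ext (map_mul k z.1 z'.1) }
  let resH : MulAut P →* MulAut (Subgroup.center P) :=
    { toFun := res
      map_one' := by ext; rfl
      map_mul' := fun _ _ => by ext; rfl }
  obtain ⟨ι₀, hιb, hιm, hι1, hιi, hιk⟩ := FieldModel.field_model hn0 hn
    (fun z => Subtype.ext (hzsq z.1 z.2)) (K.map resH)
    (by rintro _ ⟨k, hk, rfl⟩ _ ⟨l, hl, rfl⟩; rw [← map_mul, hK.comm k hk l hl, map_mul])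
    (fun a b ha hb => by
      obtain ⟨k, hk, hkab⟩ := hK.trans a.1 b.1 (fun h => ha (Subtype.ext h)) (hzsq _ a.2)
        (fun h => hb (Subtype.ext h)) (hzsq _ b.2)
      exact ⟨resH k, Subgroup.mem_map_of_mem _ hk, Subtype.ext hkab⟩)
    (a₀ := (⟨i₀, hj⟩ : Subgroup.center P)) (fun h => hi₀1 (congrArg Subtype.val h))
  let F := GaloisField 2 n
  let κ : P → F := fun a => κ₀ a
  let ι : P → F := fun a => if h : a ∈ Subgroup.center P then ι₀ ⟨a, h⟩ else 0
  have hι : ∀ (a : P) (h : a ∈ Subgroup.center P), ι a = ι₀ ⟨a, h⟩ := fun a h => dif_pos h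
  have κmul : ∀ a b, κ (a * b) = κ a + κ b := fun a b => by show κ₀ _ = _; rw [QuotientGroup.mk_mul]; exact hκm _ _
  have κsurj : Function.Surjective κ := hκb.2.comp QuotientGroup.mk_surjective
  let Q : F → F := fun u => ι (Function.surjInv κsurj u * Function.surjInv κsurj u)
  have hQ : ∀ a, Q (κ a) = ι (a * a) := fun a =>
    congrArg ι (hsame _ _ (hκb.1 (Function.surjInv_eq κsurj (κ a))))
  have ιk : ∀ k ∈ K, ∀ z ∈ Subgroup.center P, ι (k z) = ι (k i₀) * ι z := fun k hk z hz => by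
    rw [hι _ (apply_center k hz), hι _ (apply_center k hj), hι _ hz]
    exact hιk _ (Subgroup.mem_map_of_mem resH hk) ⟨z, hz⟩
  have κk : ∀ k ∈ K, ∀ a : P, κ (k a) = κ (k w) * κ a := fun k hk a =>
    hκk _ (Subgroup.mem_map_of_mem _ hk) (a : A)
  have hQ1 : Q 1 = 1 := by
    rw [← show κ w = 1 from hκw, hQ, ← hi₀, hι _ hj, hιi]; exact hκw.symm
  have hQ0 : Q 0 = 0 := by
    rw [← show κ 1 = 0 from hκ1, hQ, one_mul, hι _ (Subgroup.one_mem _)]
    exact hι1.trans hκ1.symm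
  have hQmul : ∀ u v, Q (u * v) = Q u * Q v := by
    intro u v
    by_cases hu0 : u = 0
    · rw [hu0, zero_mul, hQ0, zero_mul]
    obtain ⟨a, rfl⟩ := κsurj u
    obtain ⟨b, rfl⟩ := κsurj v
    obtain ⟨k, hk, hkw⟩ := cover a (fun h => hu0 (by show κ₀ a = 0; rw [h, hκ1]))
    have e : κ a = κ (k w) := congrArg κ₀ hkw.symm
    rw [e, ← κk k hk b, hQ, hQ, hQ, ← map_mul, ιk k hk _ (hsqmem b), ← map_mul, ← hi₀]
  have hι2 : ∀ a b, a ∈ Subgroup.center P → b ∈ Subgroup.center P → ι (a * b) = ι a + ι b := by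
    intro a b ha hb
    rw [hι _ (Subgroup.mul_mem _ ha hb), hι _ ha, hι _ hb]
    exact hιm ⟨a, ha⟩ ⟨b, hb⟩
  have hcm : ∀ a b : P, ⁅a, b⁆ ∈ Subgroup.center P := fun a => mk_mem_center_iff.1 (hAc _).1
  have hpol : ∀ a b, Q (κ a + κ b) = Q (κ a) + Q (κ b) + ι ⁅b, a⁆ := by
    intro a b
    rw [← κmul, hQ, hQ, hQ,
      show a * b * (a * b) = a * (⁅b, a⁆ * a) * b * b by simp only [commutatorElement_def]; group,
      show ⁅b, a⁆ * a = a * ⁅b, a⁆ from (Subgroup.mem_center_iff.1 (hcm b a) a).symm,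
      show a * (a * ⁅b, a⁆) * b * b = (a * a) * ⁅b, a⁆ * (b * b) by group,
      hι2 _ _ (Subgroup.mul_mem _ (hsqmem a) (hcm b a)) (hsqmem b), hι2 _ _ (hsqmem a) (hcm b a)]
    abel
  have hquad : ∀ x y z : F,
      Q (x + y + z) + Q (x + y) + Q (x + z) + Q (y + z) + Q x + Q y + Q z = 0 := by
    intro x y z
    obtain ⟨a, rfl⟩ := κsurj x
    obtain ⟨b, rfl⟩ := κsurj y
    obtain ⟨c, rfl⟩ := κsurj z
    rw [← κmul a b, hpol, κmul, hpol a b, hpol a c, hpol b c,
      show ι ⁅c, a * b⁆ = ι ⁅c, a⁆ + ι ⁅c, b⁆ by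
        rw [← hι2 _ _ (hcm c a) (hcm c b)]
        congr 1
        rw [← commutatorElement_inv (a * b) c, comm_elem_mul_left (hcm b c), mul_inv_rev,
          commutatorElement_inv, commutatorElement_inv, Subgroup.mem_center_iff.1 (hcm c a)]]
    have h2F : ∀ u : F, u + u = 0 := CharTwo.add_self_eq_zero
    linear_combination 2 * (h2F (Q (κ a))) + 2 * (h2F (Q (κ b))) + 2 * h2F (Q (κ c)) +
      h2F (ι ⁅b, a⁆) + h2F (ι ⁅c, a⁆) + h2F (ι ⁅c, b⁆) - (h2F (Q (κ a)) + h2F (Q (κ b)) + h2F (Q (κ c))) * 0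
  obtain ⟨σ, τ, hστ⟩ := mul_of_quadratic Q hQ0 hQ1 hQmul hquad
  have hQinj : ∀ u, Q u = 1 → u = 1 := by
    intro u hu'
    obtain ⟨a, rfl⟩ := κsurj u
    have ha : (a : A) ≠ 1 := fun h => by
      rw [show κ a = 0 from (congrArg κ₀ h).trans hκ1, hQ0] at hu'
      exact zero_ne_one hu'
    obtain ⟨z, hz⟩ := hΨ.2 ⟨a, ha⟩
    have hz' : ((kk z w : P) : A) = a := congrArg Subtype.val hz
    have e : a * a = z.1 := by rw [← hsame _ _ hz', ← map_mul, ← hi₀, hkk' z]
    have ezz : z.1 = i₀ := by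
      rw [hQ, e, hι _ z.2.1] at hu'
      exact congrArg Subtype.val (hιb.1 (hu'.trans hιi.symm))
    have hfix : (kk z) i₀ = i₀ := (hkk' z).trans ezz
    have h1 : κ (kk z w) = κ a := congrArg κ₀ hz'
    -- the coset of `w` is the only one squaring to `i₀`
    obtain ⟨z', hz''⟩ := hΨ.2 ⟨(w : A), fun h => hj1 ((QuotientGroup.eq_one_iff _).1 h)⟩
    have hz3 : ((kk z' w : P) : A) = (w : A) := congrArg Subtype.val hz''
    have : z' = z := Subtype.ext (by
      rw [← hkk' z', hi₀, map_mul, hsame _ _ hz3, ← hi₀, ezz])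
    rw [← h1, ← this]
    exact (congrArg κ₀ hz3).trans hκw
  let φ : F ≃+* F := τ.trans σ.symm
  have hφ : ∀ x, σ (x * φ x) = Q x := fun x => by simp [φ, hστ, map_mul]
  letI : Fintype F := Fintype.ofFinite F
  refine ⟨F, inferInstance, inferInstance, φ, ?_, ?_, ?_, ?_⟩
  · rw [← Nat.card_eq_fintype_card, GaloisField.card 2 n hn0, hn]
  · intro h
    apply hxy
    have hadd : ∀ a b, ι ⁅b, a⁆ = 0 := fun a b => by
      have h' := hpol a b
      rw [← hφ (κ a + κ b), ← hφ (κ a), ← hφ (κ b), h] at h'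
      simp only [RingEquiv.refl_apply, ← map_add] at h'
      rw [show (κ a + κ b) * (κ a + κ b) = κ a * κ a + κ b * κ b by
        linear_combination (CharTwo.add_self_eq_zero (κ a * κ b))] at h'
      linear_combination -h'
    rw [← commutatorElement_eq_one_iff_mul_comm]
    have := hadd y₁ x₁
    rw [hι _ (hcm x₁ y₁)] at this
    exact congrArg Subtype.val (hιb.1 (this.trans hι1.symm))
  · refine odd_order_of_injective φ fun x hx => hQinj x ?_
    rw [← hφ, hx, map_one]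
  · refine iso_of_squareData (F := F) (φ := (φ : F →+* F))
      ⟨κ, fun a => σ.symm (ι a), κmul, fun a => ?_, κsurj, fun a b ha hb => ?_, fun a b ha hb h => ?_,
        fun u => ?_, hsqmem, fun a => ?_⟩
    · exact ⟨fun h => (QuotientGroup.eq_one_iff a).1 (hκb.1 (h.trans hκ1.symm)),
        fun h => (congrArg κ₀ ((QuotientGroup.eq_one_iff a).2 h)).trans hκ1⟩
    · rw [← map_add, hι2 a b ha hb]
    · have := σ.symm.injective h
      rw [hι _ ha, hι _ hb] at this
      exact congrArg Subtype.val (hιb.1 this)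
    · obtain ⟨z, hz⟩ := hιb.2 (σ u)
      exact ⟨z.1, z.2, by rw [hι _ z.2, hz, σ.symm_apply_apply]⟩
    · rw [← hQ, ← hφ, σ.symm_apply_apply, mul_comm]; rfl

end Cfsg.Agent.Lib.Suzuki2.TypeA
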